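import Cfsg.Agent.H969.TT.Levi
import Cfsg.Agent.Mrg.KFacts.RgdPerf
import Cfsg.Agent.Nodes.NormalForm

/-!
# Principal series permutation characters have degree `1` modulo `p` (helper969)

`R : RGD cs h p T n X` in the finite group `Y`, `GG = ⊤`, `CommGen` (the non-simple positive root groups are in
`⁅U, U⁆`), `Ω` a finite `Y`-set such that all constituents of the permutation character are in the principal series
(`PS B Ω`). Then `#Ω ≡ #(Y-orbits on Ω)` modulo `p` (`card_modEq`).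
-/

set_option autoImplicit false
set_option linter.unusedSectionVars false

namespace Cfsg.Agent.H969.TT.Principal

open Cfsg CoxeterSystem Cfsg.Agent.ChevalleyStructure.CoxeterGeom Cfsg.Agent.Tits.Roots Cfsg.Agent.Tits.Core
  Cfsg.Agent.Tits.Exchange Cfsg.Agent.Nodes.Comb
  Cfsg.Agent.Nodes.Reps Cfsg.Agent.Nodes.BNOf Cfsg.Agent.Nodes.OppDec Cfsg.Agent.Nodes.Bruhat
  Cfsg.Agent.Nodes.LeviDec Cfsg.Agent.Nodes.StabComb Cfsg.Agent.Nodes.RGDLib Cfsg.Agent.Nodes.SubComb
  Cfsg.Agent.Nodes.Sub Cfsg.Agent.Nodes.ClsSub Cfsg.Agent.Omega.EH3.Kf.Lev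
  Cfsg.Agent.H969.TT.Count Cfsg.Agent.H969.TT.TopAbs Cfsg.Agent.H969.TT.TopRGD Cfsg.Agent.H969.TT.QuotAct
  Cfsg.Agent.H969.TT.Levi

variable {I W Y : Type*} [Fintype I] [DecidableEq I] [Group W] [Group Y] {M : CoxeterMatrix I}
  {cs : CoxeterSystem M W} {A : I → I → ℤ} {h : IsCartan M A} {p : ℕ} {T : Subgroup Y} {n : I → Y}
  {X : (I → ℤ) → Subgroup Y}

/-! ### Kernels in `ℂˣ` -/

/-- the injection of `Z/p` into `ℂˣ` -/
noncomputable def emb (p : ℕ) [NeZero p] : Multiplicative (ZMod p) →* ℂˣ :=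
  MonoidHom.toHomUnits (ZMod.stdAddChar (N := p)).toMonoidHom

theorem emb_injective (p : ℕ) [NeZero p] : Function.Injective (emb p) := by
  intro a b hab
  have h1 : ((emb p a : ℂˣ) : ℂ) = (emb p b : ℂˣ) := congrArg Units.val hab
  have h2 : ZMod.stdAddChar (N := p) (Multiplicative.toAdd a) = ZMod.stdAddChar (Multiplicative.toAdd b) := h1
  exact Multiplicative.toAdd.injective (ZMod.injective_stdAddChar h2)

theorem ker_emb {U : Type*} [Group U] {p : ℕ} [NeZero p] (φ : Ch U p) : ((emb p).comp φ).ker = φ.ker := by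
  ext u
  rw [MonoidHom.mem_ker, MonoidHom.mem_ker, MonoidHom.comp_apply, map_eq_one_iff _ (emb_injective p)]

/-! ### Supports -/

/-- the parabolic subgroup of the nodes `K` -/
def PK (cs : CoxeterSystem M W) (h : IsCartan M A) (T : Subgroup Y) (n : I → Y) (X : (I → ℤ) → Subgroup Y)
    (K : Finset I) : Subgroup Y := RGD.B cs h T X ⊔ Subgroup.closure (n '' (K : Set I))

open Classical in
/-- the simple roots on whose root groups `φ` is not trivial -/
noncomputable def supp (cs : CoxeterSystem M W) (h : IsCartan M A) (X : (I → ℤ) → Subgroup Y)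
    (φ : Ch ↥(RGD.Sup X (RGD.Pos cs h)) p) : Finset I :=
  Finset.univ.filter fun i => ∃ u : ↥(RGD.Sup X (RGD.Pos cs h)), (u : Y) ∈ X (sr i) ∧ φ u ≠ 1

theorem mem_supp {φ : Ch ↥(RGD.Sup X (RGD.Pos cs h)) p} {i : I} :
    i ∈ supp cs h X φ ↔ ∃ u : ↥(RGD.Sup X (RGD.Pos cs h)), (u : Y) ∈ X (sr i) ∧ φ u ≠ 1 := by
  classical
  simp [supp]

/-- `φ` is trivial on the non-simple root groups. -/
theorem trivial_of_nonsimple (hC : CommGen cs h X) (φ : Ch ↥(RGD.Sup X (RGD.Pos cs h)) p) {r : I → ℤ}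
    (hr : IsRoot cs h r) (h0 : 0 ≤ r) (hns : ∀ i, r ≠ sr i) {u : ↥(RGD.Sup X (RGD.Pos cs h))} (hu : (u : Y) ∈ X r) :
    φ u = 1 := by
  have h1 := hC r hr h0 hns hu
  have h2 : ⁅RGD.Sup X (RGD.Pos cs h), RGD.Sup X (RGD.Pos cs h)⁆ =
      Subgroup.map (RGD.Sup X (RGD.Pos cs h)).subtype ⁅(⊤ : Subgroup ↥(RGD.Sup X (RGD.Pos cs h))), ⊤⁆ := by
    rw [Subgroup.map_commutator, ← MonoidHom.range_eq_map, Subgroup.range_subtype]
  rw [h2] at h1
  obtain ⟨v, hv, hvu⟩ := h1
  have h3 : v = u := Subtype.ext hvu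
  rw [← h3]
  exact Abelianization.commutator_subset_ker φ hv

theorem trivial_VJ (hC : CommGen cs h X) (φ : Ch ↥(RGD.Sup X (RGD.Pos cs h)) p)
    {u : ↥(RGD.Sup X (RGD.Pos cs h))} (hu : (u : Y) ∈ VJ cs h X (supp cs h X φ : Set I)) : φ u = 1 := by
  have h1 : VJ cs h X (supp cs h X φ : Set I) ≤ φ.ker.map (RGD.Sup X (RGD.Pos cs h)).subtype := by
    refine RGD.Sup_le fun x hx a ha => ?_
    have haU : a ∈ RGD.Sup X (RGD.Pos cs h) := RGD.le_Sup (S := RGD.Pos cs h) ⟨hx.1, hx.2.1⟩ ha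
    refine ⟨⟨a, haU⟩, ?_, rfl⟩
    change φ ⟨a, haU⟩ = 1
    by_cases hs : ∃ i, x = sr i
    · obtain ⟨i, rfl⟩ := hs
      obtain ⟨k, hk, hk0⟩ := hx.2.2
      have hki : k = i := by
        by_contra hne
        rw [sr_ne hne] at hk0
        exact lt_irrefl _ hk0
      subst hki
      by_contra hcon
      exact hk (Finset.mem_coe.2 (mem_supp.2 ⟨⟨a, haU⟩, ha, hcon⟩))
    · push Not at hs
      exact trivial_of_nonsimple hC φ hx.1 hx.2.1 hs ha
  obtain ⟨v, hv, hvu⟩ := h1 hu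
  have h3 : v = u := Subtype.ext hvu
  rw [← h3]
  exact hv

/-- **(★)** for the characters of order `p`. -/
theorem mult_eq_sum [Finite W] [Finite Y] [hp : Fact p.Prime] (R : RGD cs h p T n X) (hG : GG cs h T X = ⊤)
    (hC : CommGen cs h X) {Ω : Type*} [Finite Ω] [MulAction Y Ω] [Fintype (RGD.B cs h T X)]
    (hPS : PS (RGD.B cs h T X) Ω) (φ : Ch ↥(RGD.Sup X (RGD.Pos cs h)) p) :
    (mult Ω φ.ker : ℤ) = ∑ K ∈ (supp cs h X φ).powerset, (-1 : ℤ) ^ K.card * (nOrb (PK cs h T n X K) Ω : ℤ) := by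
  classical
  have : Fintype Y := Fintype.ofFinite Y
  have hne : NeZero p := ⟨hp.out.ne_zero⟩
  set J := supp cs h X φ with hJ
  let f : {i // i ∈ J} ↪ I := Function.Embedding.subtype _
  have hrange : Set.range f = (J : Set I) := Subtype.range_coe
  have key := mult_levi f (leviMatrix f M).toCoxeterSystem R hG hPS ((emb p).comp φ) (fun u hu => by
      rw [MonoidHom.comp_apply, trivial_VJ hC φ (by rw [← hJ, ← hrange]; exact hu), map_one]) (fun j => by
      obtain ⟨u, hu, hne⟩ := mem_supp.1 j.2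
      exact ⟨u, hu, fun h1 => hne ((map_eq_one_iff _ (emb_injective p)).1 h1)⟩)
  rw [ker_emb] at key
  have h2 : (mult Ω φ.ker : ℂ) = ((∑ K ∈ J.powerset, (-1 : ℤ) ^ K.card * (nOrb (PK cs h T n X K) Ω : ℤ) : ℤ) : ℂ) := by
    rw [key]
    push_cast
    refine Finset.sum_bij (fun K _ => K.map f) ?_ ?_ ?_ ?_
    · intro K _
      rw [Finset.mem_powerset]
      intro i hi
      obtain ⟨j, -, rfl⟩ := Finset.mem_map.1 hi
      exact j.2
    · intro K _ K' _ he
      exact Finset.map_injective f he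
    · intro K hK
      refine ⟨K.subtype (· ∈ J), Finset.mem_powerset.2 (Finset.subset_univ _), ?_⟩
      exact Finset.subtype_map_of_mem (Finset.mem_powerset.1 hK)
    · intro K _
      rw [Finset.card_map, PK, Finset.coe_map]
  exact_mod_cast h2

/-! ### The congruence -/

/-- `φ` trivial on all root groups -/
theorem eq_one_of_supp_eq_empty (hC : CommGen cs h X) {φ : Ch ↥(RGD.Sup X (RGD.Pos cs h)) p}
    (hφ : supp cs h X φ = ∅) : φ = 1 := by
  ext u
  have h1 : RGD.Sup X (RGD.Pos cs h) ≤ VJ cs h X (supp cs h X φ : Set I) := by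
    refine RGD.Sup_le fun x hx => RGD.le_Sup ?_
    rw [hφ, Finset.coe_empty]
    refine ⟨hx.1, hx.2, ?_⟩
    by_contra hcon
    push Not at hcon
    apply hx.1.ne_zero
    funext k
    exact le_antisymm (hcon k (Set.notMem_empty k)) (hx.2 k)
  rw [trivial_VJ hC φ (h1 u.2)]
  rfl

/-- the number of characters whose support avoids `L` -/
theorem card_avoid [Finite W] [Finite Y] [hp : Fact p.Prime] (R : RGD cs h p T n X) (hC : CommGen cs h X)
    (L : Finset I) : (p : ℤ) ∣ (Nat.card {φ : Ch ↥(RGD.Sup X (RGD.Pos cs h)) p // Disjoint L (supp cs h X φ)} : ℤ) -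
      (if L = Finset.univ then 1 else 0) := by
  classical
  set U := RGD.Sup X (RGD.Pos cs h) with hU
  have hUp : IsPGroup p U := R.isPGroup_Upos
  -- the subgroup of these characters
  set S : Subgroup U := (VJ cs h X (L : Set I)ᶜ).subgroupOf U with hS
  have h1 : ∀ φ : Ch U p, Disjoint L (supp cs h X φ) ↔ φ ∈ ann p S := by
    intro φ
    rw [mem_ann]
    constructor
    · intro hd u hu
      have h2 : VJ cs h X (L : Set I)ᶜ ≤ VJ cs h X (supp cs h X φ : Set I) := by
        refine RGD.Sup_mono ?_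
        rintro x ⟨hr, h0, k, hk, hk0⟩
        refine ⟨hr, h0, k, ?_, hk0⟩
        rw [Set.mem_compl_iff, not_not] at hk
        exact fun h3 => Finset.disjoint_left.1 hd (Finset.mem_coe.1 hk) (Finset.mem_coe.1 h3)
      exact trivial_VJ hC φ (h2 hu)
    · intro hs
      rw [Finset.disjoint_left]
      intro i hi hi'
      obtain ⟨u, hu, hne⟩ := mem_supp.1 hi'
      refine hne (hs ?_)
      rw [hS, Subgroup.mem_subgroupOf]
      refine RGD.le_Sup (sr_mem_NotJ ?_) hu
      rw [Set.mem_compl_iff, not_not]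
      exact Finset.mem_coe.2 hi
  rw [Nat.card_congr (Equiv.subtypeEquivRight h1)]
  split_ifs with hL
  · have h2 : ann p S = ⊥ := by
      rw [Subgroup.eq_bot_iff_forall]
      intro φ hφ
      refine eq_one_of_supp_eq_empty hC ?_
      have h3 := (h1 φ).2 hφ
      rw [hL, Finset.disjoint_left] at h3
      rw [Finset.eq_empty_iff_forall_notMem]
      exact fun i => h3 (Finset.mem_univ i)
    have h4 : Nat.card {φ : Ch U p // φ ∈ ann p S} = 1 := by
      rw [h2]; exact Subgroup.card_bot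
    rw [h4]
    simp
  · rw [sub_zero, Int.natCast_dvd_natCast]
    refine dvd_card_of_ne_bot fun h2 => ?_
    rw [ann_eq_bot_iff hUp] at h2
    obtain ⟨i, hi⟩ : ∃ i, i ∉ L := by
      by_contra hcon
      push Not at hcon
      exact hL (Finset.eq_univ_iff_forall.2 hcon)
    obtain ⟨u, hu, hu1⟩ := exists_ne_one R i
    have huU : u ∈ U := RGD.le_Sup (S := RGD.Pos cs h) ⟨isRoot_sr cs h i, sr_nonneg i⟩ hu
    have h3 : (⟨u, huU⟩ : U) ∈ S := by rw [h2]; exact Subgroup.mem_top _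
    have h4 : u ∈ VJ cs h X (L : Set I)ᶜ := h3
    have h5 : u ∈ LJ cs h T X (L : Set I)ᶜ := by
      refine X_le_LJ (PosJ_subset _ (sr_mem_PosJ ?_)) hu
      rw [Set.mem_compl_iff]
      exact fun h6 => hi (Finset.mem_coe.1 h6)
    have h6 : u ∈ LJ cs h T X (L : Set I)ᶜ ⊓ VJ cs h X (L : Set I)ᶜ := ⟨h5, h4⟩
    rw [LJ_inf_VJ R] at h6
    exact hu1 h6

/-- the number of characters whose support contains `K` -/
theorem card_contain [Finite W] [Finite Y] [hp : Fact p.Prime] (R : RGD cs h p T n X) (hC : CommGen cs h X)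
    [Fintype (Ch ↥(RGD.Sup X (RGD.Pos cs h)) p)] (K : Finset I) :
    (p : ℤ) ∣ (((Finset.univ : Finset (Ch ↥(RGD.Sup X (RGD.Pos cs h)) p)).filter
      (fun φ => K ⊆ supp cs h X φ)).card : ℤ) - (if K = Finset.univ then (-1) ^ (Fintype.card I) else 0) := by
  classical
  have h1 := Finset.inclusion_exclusion_card_inf_compl K (fun i => (Finset.univ : Finset (Ch ↥(RGD.Sup X (RGD.Pos cs h)) p)).filter
    (fun φ => i ∉ supp cs h X φ))
  have h2 : K.inf (fun i => ((Finset.univ : Finset (Ch ↥(RGD.Sup X (RGD.Pos cs h)) p)).filter (fun φ => i ∉ supp cs h X φ))ᶜ) =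
      (Finset.univ : Finset (Ch ↥(RGD.Sup X (RGD.Pos cs h)) p)).filter (fun φ => K ⊆ supp cs h X φ) := by
    ext φ
    simp only [Finset.mem_inf, Finset.mem_compl, Finset.mem_filter, Finset.mem_univ, true_and, not_not]
    exact Iff.rfl
  have h3 : ∀ L : Finset I, L.inf (fun i => (Finset.univ : Finset (Ch ↥(RGD.Sup X (RGD.Pos cs h)) p)).filter (fun φ => i ∉ supp cs h X φ)) =
      (Finset.univ : Finset (Ch ↥(RGD.Sup X (RGD.Pos cs h)) p)).filter (fun φ => Disjoint L (supp cs h X φ)) := by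
    intro L
    ext φ
    simp only [Finset.mem_inf, Finset.mem_filter, Finset.mem_univ, true_and, Finset.disjoint_left]
  rw [h2] at h1
  rw [h1]
  have h4 : ∀ L : Finset I, (p : ℤ) ∣ (((Finset.univ : Finset (Ch ↥(RGD.Sup X (RGD.Pos cs h)) p)).filter
      (fun φ => Disjoint L (supp cs h X φ))).card : ℤ) - (if L = Finset.univ then 1 else 0) := by
    intro L
    have := card_avoid R hC L
    rwa [Nat.card_eq_fintype_card, Fintype.card_subtype] at this
  have h5 : ∑ L ∈ K.powerset, (-1 : ℤ) ^ L.card * (L.inf (fun i => (Finset.univ : Finset (Ch ↥(RGD.Sup X (RGD.Pos cs h)) p)).filter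
      (fun φ => i ∉ supp cs h X φ))).card - ∑ L ∈ K.powerset, (-1 : ℤ) ^ L.card * (if L = Finset.univ then 1 else 0)
      = ∑ L ∈ K.powerset, (-1 : ℤ) ^ L.card * ((((Finset.univ : Finset (Ch ↥(RGD.Sup X (RGD.Pos cs h)) p)).filter
      (fun φ => Disjoint L (supp cs h X φ))).card : ℤ) - (if L = Finset.univ then 1 else 0)) := by
    rw [← Finset.sum_sub_distrib]
    refine Finset.sum_congr rfl fun L _ => ?_
    rw [h3]
    ring
  have h6 : ∑ L ∈ K.powerset, (-1 : ℤ) ^ L.card * (if L = Finset.univ then (1 : ℤ) else 0) =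
      if K = Finset.univ then (-1) ^ (Fintype.card I) else 0 := by
    split_ifs with hK
    · subst hK
      rw [Finset.sum_eq_single Finset.univ]
      · rw [if_pos rfl, mul_one, Finset.card_univ]
      · intro L _ hL
        rw [if_neg hL, mul_zero]
      · intro h7
        exact absurd (Finset.mem_powerset.2 (Finset.subset_univ _)) h7
    · refine Finset.sum_eq_zero fun L hL => ?_
      rw [if_neg, mul_zero]
      rintro rfl
      exact hK (Finset.univ_subset_iff.1 (Finset.mem_powerset.1 hL))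
  rw [← h6, h5]
  exact Finset.dvd_sum fun L _ => Dvd.dvd.mul_left (h4 L) _

theorem PK_univ [Finite W] (R : RGD cs h p T n X) (hG : GG cs h T X = ⊤) : PK cs h T n X Finset.univ = ⊤ := by
  rw [eq_top_iff]
  intro g _
  have hg : g ∈ GG cs h T X := by rw [hG]; exact Subgroup.mem_top g
  obtain ⟨w, b₁, hb₁, k, hk, b₂, hb₂, rfl⟩ := (mem_GG R).1 hg
  obtain ⟨k', hk', hr⟩ := exists_rp_closure (hN := R.nsys) w
  have h1 : k ∈ PK cs h T n X Finset.univ := by
    have h2 := hr.unique hk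
    have h3 : k = k' * (k'⁻¹ * k) := by group
    rw [h3]
    refine mul_mem (Subgroup.mem_sup_right ?_) (Subgroup.mem_sup_left (RGD.T_le_B h2))
    rw [Finset.coe_univ, Set.image_univ]
    exact hk'
  exact mul_mem (mul_mem (Subgroup.mem_sup_left hb₁) h1) (Subgroup.mem_sup_left hb₂)

/-- **The degree of a principal series permutation character.** -/
theorem card_modEq [Finite W] [Finite Y] [hp : Fact p.Prime] (R : RGD cs h p T n X) (hG : GG cs h T X = ⊤)
    (hC : CommGen cs h X) {Ω : Type*} [Finite Ω] [MulAction Y Ω] [Fintype (RGD.B cs h T X)]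
    (hPS : PS (RGD.B cs h T X) Ω) : (p : ℤ) ∣ (Nat.card Ω : ℤ) - (nOrb (⊤ : Subgroup Y) Ω : ℤ) := by
  classical
  have : Fintype Ω := Fintype.ofFinite Ω
  set U := RGD.Sup X (RGD.Pos cs h) with hU
  have hUp : IsPGroup p U := R.isPGroup_Upos
  have : Fintype (Ch U p) := Fintype.ofFinite _
  have h1 := sum_mult (U := U) (Ω := Ω) (p := p) hUp
  have h2 : (p : ℤ) ∣ (Nat.card Ω : ℤ) - ((∑ φ : Ch U p, mult Ω φ.ker : ℕ) : ℤ) := by
    rw [Nat.card_eq_fintype_card]
    exact (Nat.modEq_iff_dvd.1 h1)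
  have h3 : ((∑ φ : Ch U p, mult Ω φ.ker : ℕ) : ℤ) =
      ∑ K ∈ (Finset.univ : Finset I).powerset, (-1 : ℤ) ^ K.card * (nOrb (PK cs h T n X K) Ω : ℤ) *
        (((Finset.univ : Finset (Ch U p)).filter (fun φ => K ⊆ supp cs h X φ)).card : ℤ) := by
    push_cast
    rw [Finset.sum_congr rfl fun φ _ => mult_eq_sum R hG hC hPS φ]
    have h4 : ∀ φ : Ch U p, ∑ K ∈ (supp cs h X φ).powerset, (-1 : ℤ) ^ K.card * (nOrb (PK cs h T n X K) Ω : ℤ) =
        ∑ K ∈ (Finset.univ : Finset I).powerset, if K ⊆ supp cs h X φ then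
          (-1 : ℤ) ^ K.card * (nOrb (PK cs h T n X K) Ω : ℤ) else 0 := by
      intro φ
      rw [← Finset.sum_filter]
      refine Finset.sum_congr ?_ fun _ _ => rfl
      ext K
      simp
    rw [Finset.sum_congr rfl fun φ _ => h4 φ, Finset.sum_comm]
    refine Finset.sum_congr rfl fun K _ => ?_
    rw [← Finset.sum_filter, Finset.sum_const, nsmul_eq_mul, mul_comm]
  have h5 : (p : ℤ) ∣ (∑ K ∈ (Finset.univ : Finset I).powerset, (-1 : ℤ) ^ K.card * (nOrb (PK cs h T n X K) Ω : ℤ) *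
        (((Finset.univ : Finset (Ch U p)).filter (fun φ => K ⊆ supp cs h X φ)).card : ℤ)) -
      ∑ K ∈ (Finset.univ : Finset I).powerset, (-1 : ℤ) ^ K.card * (nOrb (PK cs h T n X K) Ω : ℤ) *
        (if K = Finset.univ then (-1) ^ (Fintype.card I) else 0) := by
    rw [← Finset.sum_sub_distrib]
    refine Finset.dvd_sum fun K _ => ?_
    rw [← mul_sub]
    exact Dvd.dvd.mul_left (card_contain R hC K) _
  have h6 : ∑ K ∈ (Finset.univ : Finset I).powerset, (-1 : ℤ) ^ K.card * (nOrb (PK cs h T n X K) Ω : ℤ) *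
        (if K = Finset.univ then (-1) ^ (Fintype.card I) else 0) = (nOrb (⊤ : Subgroup Y) Ω : ℤ) := by
    rw [Finset.sum_eq_single Finset.univ]
    · rw [if_pos rfl, PK_univ R hG, Finset.card_univ, mul_comm, ← mul_assoc, ← pow_add, ← two_mul, pow_mul,
        neg_one_sq, one_pow, one_mul]
    · intro K _ hK
      rw [if_neg hK, mul_zero]
    · intro h7
      exact absurd (Finset.mem_powerset.2 (Finset.subset_univ _)) h7
  rw [h6, ← h3] at h5
  have := dvd_add h2 h5
  rwa [sub_add_sub_cancel] at this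

/-- transitive case -/
theorem not_dvd [Finite W] [Finite Y] [hp : Fact p.Prime] (R : RGD cs h p T n X) (hG : GG cs h T X = ⊤)
    (hC : CommGen cs h X) {Ω : Type*} [Finite Ω] [Nonempty Ω] [MulAction Y Ω] [MulAction.IsPretransitive Y Ω]
    [Fintype (RGD.B cs h T X)] (hPS : PS (RGD.B cs h T X) Ω) : ¬ p ∣ Nat.card Ω := by
  intro hd
  have h1 := card_modEq R hG hC hPS
  have h2 : nOrb (⊤ : Subgroup Y) Ω = 1 := by
    rw [nOrb, Nat.card_eq_one_iff_unique]
    constructor
    · refine ⟨fun a b => ?_⟩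
      obtain ⟨x, rfl⟩ := Quotient.mk''_surjective a
      obtain ⟨y, rfl⟩ := Quotient.mk''_surjective b
      obtain ⟨g, hg⟩ := MulAction.exists_smul_eq Y y x
      exact mk_eq.2 ⟨⟨g, Subgroup.mem_top g⟩, hg⟩
    · obtain ⟨x⟩ := ‹Nonempty Ω›
      exact ⟨Quotient.mk'' x⟩
  rw [h2] at h1
  have h3 : (p : ℤ) ∣ (Nat.card Ω : ℤ) := Int.natCast_dvd_natCast.2 hd
  have h4 := dvd_sub h3 h1
  rw [sub_sub_cancel] at h4
  have h5 : p ∣ 1 := by exact_mod_cast h4
  exact hp.out.one_lt.ne' (Nat.dvd_one.1 h5)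

end Cfsg.Agent.H969.TT.Principal
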