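import Mathlib

/-!
# Counting orbits on which a linear character is trivial (helper969)

`U` a finite group acting on a finite set `Ω`.
* `Good K O` : the stabilisers of the points of the orbit `O` are contained in `K`; `mult K` : the number of such orbits;
* `sum_stab` : `∑ α, |U_α| f(α) = |U| ∑ O, f(O)` for an invariant function;
* `sum_char` : `∑ u, ψ(u)⁻¹ #Fix(u) = |U| mult (ker ψ)`;
* `sum_mult` : `U` a `p`-group: `∑ φ ∈ Hom(U, Z/p), mult (ker φ) ≡ |Ω| mod p`.
-/

set_option autoImplicit false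
set_option linter.unusedSectionVars false

namespace Cfsg.Agent.H969.TT.Count

open MulAction

variable {U Ω : Type*} [Group U] [MulAction U Ω]

/-- the stabilisers of the points of the orbit `O` are contained in `K` -/
def Good (K : Subgroup U) (O : orbitRel.Quotient U Ω) : Prop :=
  ∀ α : Ω, (Quotient.mk'' α : orbitRel.Quotient U Ω) = O → stabilizer U α ≤ K

theorem mk_eq {α β : Ω} : (Quotient.mk'' β : orbitRel.Quotient U Ω) = Quotient.mk'' α ↔ β ∈ orbit U α := by
  rw [← orbitRel_apply]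
  exact Quotient.eq''

theorem good_mk {K : Subgroup U} [K.Normal] {α : Ω} :
    Good K (Quotient.mk'' α : orbitRel.Quotient U Ω) ↔ stabilizer U α ≤ K := by
  constructor
  · intro h
    exact h α rfl
  · intro h β hβ
    obtain ⟨u, rfl⟩ := mk_eq.1 hβ
    intro v hv
    have h2 : u⁻¹ * v * u ∈ stabilizer U α := by
      rw [mem_stabilizer_iff] at hv ⊢
      simp only at hv
      rw [mul_smul, mul_smul, hv, inv_smul_smul]
    have h3 := ‹K.Normal›.conj_mem _ (h h2) u
    have h4 : u * (u⁻¹ * v * u) * u⁻¹ = v := by group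
    rwa [h4] at h3

variable (Ω) in
/-- the number of orbits whose point stabilisers are contained in `K` -/
noncomputable def mult (K : Subgroup U) : ℕ :=
  Nat.card {O : orbitRel.Quotient U Ω // Good K O}

theorem card_orbit_mul (α : Ω) : Nat.card (orbit U α) * Nat.card (stabilizer U α) = Nat.card U := by
  rw [← Nat.card_prod]
  exact Nat.card_congr (orbitProdStabilizerEquivGroup U α)

theorem card_orbit_pos [Finite Ω] (α : Ω) : 0 < Nat.card (orbit U α) := by
  have : Nonempty (orbit U α) := ⟨⟨α, mem_orbit_self α⟩⟩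
  exact Nat.card_pos

section Fin

variable [Finite U] [Fintype Ω]

theorem card_mk (α : Ω) [DecidableEq (orbitRel.Quotient U Ω)] :
    (Finset.univ.filter fun β : Ω => (Quotient.mk'' β : orbitRel.Quotient U Ω) = Quotient.mk'' α).card =
      Nat.card (orbit U α) := by
  classical
  rw [← Fintype.card_subtype, ← Nat.card_eq_fintype_card]
  exact Nat.card_congr (Equiv.subtypeEquivRight fun β => mk_eq)

theorem sum_stab [Fintype (orbitRel.Quotient U Ω)] {R : Type*} [CommSemiring R] (f : orbitRel.Quotient U Ω → R) :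
    ∑ α : Ω, (Nat.card (stabilizer U α) : R) * f (Quotient.mk'' α) = (Nat.card U : R) * ∑ O, f O := by
  classical
  rw [← Finset.sum_fiberwise Finset.univ (fun α : Ω => (Quotient.mk'' α : orbitRel.Quotient U Ω)),
    Finset.mul_sum]
  refine Finset.sum_congr rfl fun O _ => ?_
  obtain ⟨α, rfl⟩ := Quotient.mk''_surjective O
  have h1 : ∀ β ∈ (Finset.univ.filter fun β : Ω => (Quotient.mk'' β : orbitRel.Quotient U Ω) = Quotient.mk'' α),
      (Nat.card (stabilizer U β) : R) * f (Quotient.mk'' β) =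
        ((Nat.card U / Nat.card (orbit U α) : ℕ) : R) * f (Quotient.mk'' α) := by
    intro β hβ
    rw [Finset.mem_filter] at hβ
    rw [hβ.2]
    congr 2
    have h2 : orbit U β = orbit U α := orbit_eq_iff.2 (mk_eq.1 hβ.2)
    have h3 := card_orbit_mul (U := U) β
    rw [h2] at h3
    have h4 : 0 < Nat.card (orbit U α) := card_orbit_pos α
    rw [← h3, Nat.mul_div_cancel_left _ h4]
  rw [Finset.sum_congr rfl h1, Finset.sum_const, card_mk, nsmul_eq_mul, ← mul_assoc, ← Nat.cast_mul]
  congr 2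
  have h5 : 0 < Nat.card (orbit U α) := card_orbit_pos α
  rw [← card_orbit_mul (U := U) α, Nat.mul_div_cancel_left _ h5]

/-- a linear character sums to `|S|` or `0` over a subgroup -/
theorem sum_hom (S : Subgroup U) [Fintype S] [DecidableEq Prop] (ψ : U →* ℂˣ) [Decidable (S ≤ ψ.ker)] :
    ∑ u : S, ((ψ (u : U)⁻¹ : ℂˣ) : ℂ) = if S ≤ ψ.ker then (Nat.card S : ℂ) else 0 := by
  classical
  split_ifs with h
  · have h1 : ∀ u : S, ((ψ (u : U)⁻¹ : ℂˣ) : ℂ) = 1 := by
      intro u
      have : ψ (u : U) = 1 := h u.2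
      rw [map_inv, this, inv_one, Units.val_one]
    rw [Finset.sum_congr rfl fun u _ => h1 u, Finset.sum_const, Finset.card_univ, nsmul_eq_mul, mul_one,
      Nat.card_eq_fintype_card]
  · obtain ⟨s, hs, hs1⟩ := Set.not_subset.1 (show ¬ ((S : Set U) ⊆ (ψ.ker : Set U)) from h)
    have h1 : ∑ u : S, ((ψ (u : U)⁻¹ : ℂˣ) : ℂ) = ((ψ s⁻¹ : ℂˣ) : ℂ) * ∑ u : S, ((ψ (u : U)⁻¹ : ℂˣ) : ℂ) := by
      rw [Finset.mul_sum]
      refine Fintype.sum_equiv (Equiv.mulRight (⟨s, hs⟩ : S)⁻¹) _ _ fun u => ?_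
      simp only [Equiv.coe_mulRight, Subgroup.coe_mul, InvMemClass.coe_inv, mul_inv_rev, inv_inv, map_mul,
        Units.val_mul]
      rw [← mul_assoc, ← Units.val_mul, ← map_mul, inv_mul_cancel, map_one, Units.val_one, one_mul]
    have h2 : ((ψ s⁻¹ : ℂˣ) : ℂ) ≠ 1 := by
      intro h3
      apply hs1
      have h4 : ψ s⁻¹ = 1 := Units.ext h3
      rw [map_inv, inv_eq_one] at h4
      exact h4
    have h3 : (1 - ((ψ s⁻¹ : ℂˣ) : ℂ)) * ∑ u : S, ((ψ (u : U)⁻¹ : ℂˣ) : ℂ) = 0 := by
      rw [sub_mul, one_mul, ← h1, sub_self]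
    exact (mul_eq_zero.1 h3).resolve_left (sub_ne_zero.2 (Ne.symm h2))

theorem sum_char [Fintype U] (ψ : U →* ℂˣ) :
    ∑ u : U, ((ψ u⁻¹ : ℂˣ) : ℂ) * (Nat.card (fixedBy Ω u) : ℂ) = (Nat.card U : ℂ) * (mult Ω ψ.ker : ℂ) := by
  classical
  have : Fintype (orbitRel.Quotient U Ω) := Fintype.ofFinite _
  have h0 : ∀ u : U, (Nat.card (fixedBy Ω u) : ℂ) = ∑ α : Ω, if u • α = α then (1 : ℂ) else 0 := by
    intro u
    rw [Finset.sum_boole, ← Fintype.card_subtype, ← Nat.card_eq_fintype_card]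
    rfl
  have h1 : ∑ u : U, ((ψ u⁻¹ : ℂˣ) : ℂ) * (Nat.card (fixedBy Ω u) : ℂ) =
      ∑ α : Ω, (Nat.card (stabilizer U α) : ℂ) *
        (if Good ψ.ker (Quotient.mk'' α : orbitRel.Quotient U Ω) then (1 : ℂ) else 0) := by
    simp_rw [h0, Finset.mul_sum]
    rw [Finset.sum_comm]
    refine Finset.sum_congr rfl fun α _ => ?_
    have h2 : ∑ u : U, ((ψ u⁻¹ : ℂˣ) : ℂ) * (if u • α = α then (1 : ℂ) else 0) =
        ∑ u : stabilizer U α, ((ψ (u : U)⁻¹ : ℂˣ) : ℂ) := by
      simp_rw [mul_ite, mul_one, mul_zero]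
      rw [← Finset.sum_filter]
      refine Finset.sum_subtype _ (fun u => ?_) _
      simp [mem_stabilizer_iff]
    rw [h2, sum_hom]
    by_cases h3 : stabilizer U α ≤ ψ.ker
    · rw [if_pos h3, if_pos (good_mk.2 h3), mul_one]
    · rw [if_neg h3, if_neg (fun h => h3 (good_mk.1 h)), mul_zero]
  rw [h1, sum_stab (fun O => if Good ψ.ker O then (1 : ℂ) else 0), Finset.sum_boole, mult,
    ← Fintype.card_subtype, ← Nat.card_eq_fintype_card (α := {O : orbitRel.Quotient U Ω // Good ψ.ker O})]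

end Fin

/-! ### The sum over the characters of order `p` -/

section Sum

variable [Finite U] [Fintype Ω] {p : ℕ} [hp : Fact p.Prime]

/-- homomorphisms to the cyclic group of order `p` -/
abbrev Ch (U : Type*) [Group U] (p : ℕ) : Type _ := U →* Multiplicative (ZMod p)

theorem pow_eq_one' (φ : Ch U p) : φ ^ p = 1 := by
  ext u
  rw [MonoidHom.pow_apply, MonoidHom.one_apply, ← ofAdd_toAdd (φ u), ← ofAdd_nsmul]
  simp

/-- the group of the homomorphisms which are trivial on `S` -/
def ann (p : ℕ) (S : Subgroup U) : Subgroup (Ch U p) where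
  carrier := {φ | S ≤ φ.ker}
  mul_mem' := by
    intro φ χ hφ hχ s hs
    have h1 : φ s = 1 := hφ hs
    have h2 : χ s = 1 := hχ hs
    change (φ * χ) s = 1
    rw [MonoidHom.mul_apply, h1, h2, one_mul]
  one_mem' := by
    intro s _
    rfl
  inv_mem' := by
    intro φ hφ s hs
    have h1 : φ s = 1 := hφ hs
    change (φ⁻¹) s = 1
    rw [MonoidHom.inv_apply, h1, inv_one]

theorem mem_ann {S : Subgroup U} {φ : Ch U p} : φ ∈ ann p S ↔ S ≤ φ.ker := Iff.rfl

instance finite_Ch : Finite (Ch U p) := Finite.of_injective (fun φ : Ch U p => (φ : U → Multiplicative (ZMod p)))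
  DFunLike.coe_injective

theorem dvd_card_of_ne_bot {H : Subgroup (Ch U p)} (h : H ≠ ⊥) : p ∣ Nat.card H := by
  rw [Subgroup.ne_bot_iff_exists_ne_one] at h
  obtain ⟨φ, hφ⟩ := h
  have h1 : orderOf φ = p := by
    refine orderOf_eq_prime ?_ hφ
    exact Subtype.ext (pow_eq_one' φ.1)
  have h2 := orderOf_dvd_natCard φ
  rwa [h1] at h2

/-- A proper subgroup of a `p`-group is in the kernel of a nontrivial homomorphism to `Z/p`. -/
theorem exists_char (hU : IsPGroup p U) {S : Subgroup U} (hS : S ≠ ⊤) : ∃ φ : Ch U p, S ≤ φ.ker ∧ φ ≠ 1 := by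
  obtain ⟨k, hk⟩ := IsPGroup.iff_card.1 hU
  obtain ⟨j, hj⟩ := IsPGroup.iff_card.1 (hU.to_subgroup S)
  have hjk : j < k := by
    have h1 : Nat.card S < Nat.card U := by
      refine lt_of_le_of_ne (Subgroup.card_le_card_group S) fun h => hS ?_
      exact Subgroup.eq_top_of_card_eq S h
    rw [hj, hk] at h1
    exact (Nat.pow_lt_pow_iff_right hp.out.one_lt).1 h1
  obtain ⟨K, hK, hSK⟩ := Sylow.exists_subgroup_card_pow_prime_le p (m := k - 1)
    (by rw [hk]; exact pow_dvd_pow p (by omega)) S hj (by omega)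
  have hidx : K.index = p := by
    have h1 := K.card_mul_index
    rw [hK, hk] at h1
    have h2 : p ^ k = p ^ (k - 1) * p := by rw [← pow_succ]; congr 1; omega
    rw [h2] at h1
    exact Nat.eq_of_mul_eq_mul_left (pow_pos hp.out.pos _) h1
  have hN : K.Normal := by
    refine Subgroup.normal_of_index_eq_minFac_card ?_
    rw [hidx, hk, Nat.Prime.pow_minFac hp.out (by omega)]
  have hc : Nat.card (U ⧸ K) = p := by rw [← hidx]; rfl
  have hcyc : IsCyclic (U ⧸ K) := isCyclic_of_prime_card hc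
  have e : (U ⧸ K) ≃* Multiplicative (ZMod p) := mulEquivOfPrimeCardEq hc (by simp)
  refine ⟨e.toMonoidHom.comp (QuotientGroup.mk' K), ?_, ?_⟩
  · intro s hs
    have h1 : QuotientGroup.mk' K s = 1 := (QuotientGroup.eq_one_iff s).2 (hSK hs)
    change e (QuotientGroup.mk' K s) = 1
    rw [h1, map_one]
  · intro h
    have h2 : K = ⊤ := by
      rw [eq_top_iff]
      intro u _
      have h3 : e (QuotientGroup.mk' K u) = 1 := DFunLike.congr_fun h u
      rw [map_eq_one_iff e e.injective] at h3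
      exact (QuotientGroup.eq_one_iff u).1 h3
    rw [h2, Subgroup.index_top] at hidx
    exact hp.out.one_lt.ne hidx

theorem ann_eq_bot_iff (hU : IsPGroup p U) {S : Subgroup U} : ann p S = ⊥ ↔ S = ⊤ := by
  constructor
  · intro h
    by_contra hS
    obtain ⟨φ, h1, h2⟩ := exists_char hU hS
    have h3 : φ ∈ ann p S := h1
    rw [h, Subgroup.mem_bot] at h3
    exact h2 h3
  · rintro rfl
    rw [Subgroup.eq_bot_iff_forall]
    intro φ hφ
    ext u
    exact congrArg _ (hφ (Subgroup.mem_top u))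

theorem sum_mult [Fintype (Ch U p)] (hU : IsPGroup p U) :
    ∑ φ : Ch U p, mult Ω φ.ker ≡ Fintype.card Ω [MOD p] := by
  classical
  have : Fintype (orbitRel.Quotient U Ω) := Fintype.ofFinite _
  have h1 : ∑ φ : Ch U p, mult Ω φ.ker = ∑ O : orbitRel.Quotient U Ω, Nat.card {φ : Ch U p // Good φ.ker O} := by
    simp_rw [mult, Nat.card_eq_fintype_card, Fintype.card_subtype, Finset.card_filter]
    exact Finset.sum_comm
  have h2 : ∀ α : Ω, Nat.card {φ : Ch U p // Good φ.ker (Quotient.mk'' α : orbitRel.Quotient U Ω)} =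
      Nat.card (ann p (stabilizer U α)) := by
    intro α
    exact Nat.card_congr (Equiv.subtypeEquivRight fun φ => good_mk)
  have h3 : ∀ O : orbitRel.Quotient U Ω, Nat.card {φ : Ch U p // Good φ.ker O} ≡
      (if ∃ α ∈ fixedPoints U Ω, (Quotient.mk'' α : orbitRel.Quotient U Ω) = O then 1 else 0) [MOD p] := by
    intro O
    obtain ⟨α, rfl⟩ := Quotient.mk''_surjective O
    rw [h2]
    split_ifs with h
    · obtain ⟨β, hβ, he⟩ := h
      have h4 : α = β := by
        obtain ⟨u, hu⟩ := mk_eq.1 he.symm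
        simp only at hu
        rw [← hu]
        exact hβ u
      subst h4
      have h5 : stabilizer U α = ⊤ := by
        rw [eq_top_iff]
        intro u _
        exact hβ u
      rw [(ann_eq_bot_iff hU).2 h5, Subgroup.card_bot]
    · have h5 : stabilizer U α ≠ ⊤ := by
        intro h6
        refine h ⟨α, fun u => ?_, rfl⟩
        have : u ∈ stabilizer U α := by rw [h6]; exact Subgroup.mem_top u
        exact this
      have h6 : p ∣ Nat.card (ann p (stabilizer U α)) :=
        dvd_card_of_ne_bot fun h7 => h5 ((ann_eq_bot_iff hU).1 h7)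
      exact (Nat.modEq_zero_iff_dvd.2 h6)
  have h4 : Nat.card Ω ≡ Nat.card (fixedPoints U Ω) [MOD p] := hU.card_modEq_card_fixedPoints Ω
  rw [h1, ← Nat.card_eq_fintype_card]
  refine Nat.ModEq.trans ?_ h4.symm
  have h5 : ∑ O : orbitRel.Quotient U Ω, Nat.card {φ : Ch U p // Good φ.ker O} ≡
      ∑ O : orbitRel.Quotient U Ω,
        (if ∃ α ∈ fixedPoints U Ω, (Quotient.mk'' α : orbitRel.Quotient U Ω) = O then 1 else 0) [MOD p] := by
    induction (Finset.univ : Finset (orbitRel.Quotient U Ω)) using Finset.induction_on with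
    | empty => simp only [Finset.sum_empty]; exact Nat.ModEq.refl _
    | insert a s ha ih =>
      rw [Finset.sum_insert ha, Finset.sum_insert ha]
      exact Nat.ModEq.add (h3 a) ih
  refine h5.trans ?_
  rw [← Finset.card_filter, ← Fintype.card_subtype, ← Nat.card_eq_fintype_card]
  refine congrArg (· % p) ?_
  symm
  refine Nat.card_congr (Equiv.ofBijective (fun α : fixedPoints U Ω =>
    (⟨Quotient.mk'' α.1, α.1, α.2, rfl⟩ : {O : orbitRel.Quotient U Ω //
      ∃ α ∈ fixedPoints U Ω, (Quotient.mk'' α : orbitRel.Quotient U Ω) = O})) ⟨?_, ?_⟩)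
  · intro α β he
    have h6 := congrArg Subtype.val he
    obtain ⟨u, hu⟩ := mk_eq.1 h6
    simp only at hu
    apply Subtype.ext
    rw [← hu]
    exact β.2 u
  · rintro ⟨O, α, hα, rfl⟩
    exact ⟨⟨α, hα⟩, rfl⟩

end Sum

end Cfsg.Agent.H969.TT.Count
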