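import Mathlib
import Cfsg.Agent.Characters.Core
import Cfsg.Agent.Characters.Linear
import Cfsg.Agent.PermutationGroups.PermChar
import Cfsg.Agent.H969.TT.Count

/-!
# Multiplicity of a Gelfand-Graev type character in a principal series permutation character (helper969)

* `PS B Ω` : the permutation module of `Ω` is generated by its `B`-fixed vectors (dual formulation);
* `sum_mul_eq_zero` : `χ` irreducible, `∑ b ∈ B, χ b = 0` implies `∑ b ∈ B, χ (g b) = 0`;
* `sum_fix_eq_zero` : then `χ` is not a constituent of the permutation character of `Ω`, `PS B Ω`;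
* `mult_eq` : `mult Ω (ker ψ) = ⟨π, St⟩`.
-/

set_option autoImplicit false
set_option linter.unusedSectionVars false

namespace Cfsg.Agent.H969.TT.TopAbs

open MulAction Cfsg Cfsg.Agent.Characters.Core Cfsg.Agent.H969.TT.Count
open scoped ComplexConjugate

/-- The permutation module is generated by the `B`-fixed vectors (dual formulation). -/
def PS {Y : Type*} [Group Y] (B : Subgroup Y) [Fintype B] (Ω : Type*) [MulAction Y Ω] : Prop :=
  ∀ f : Ω → ℂ, (∀ (g : Y) (ω : Ω), ∑ b : B, f (g • (b : Y) • ω) = 0) → f = 0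

section A

variable {Y : Type*} [Group Y] [Finite Y] (B : Subgroup Y) [Fintype B]

/-- `∑ b ∈ B, χ b = 0` implies `∑ b ∈ B, χ (g b) = 0`. -/
theorem sum_mul_eq_zero {χ : Y → ℂ} (hχ : IsIrrCharacter Y χ) (h : ∑ b : B, χ b = 0) (g : Y) :
    ∑ b : B, χ (g * b) = 0 := by
  obtain ⟨n, ρ, -, rfl⟩ := hχ
  have hne : (Nat.card B : ℂ) ≠ 0 := card_ne_zero_complex
  have : Invertible (Nat.card B : ℂ) := invertibleOfNonzero hne
  have h1 := Representation.card_inv_mul_sum_char_eq_finrank (ρ.comp B.subtype)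
  have h2 : Module.finrank ℂ (Representation.invariants (ρ.comp B.subtype)) = 0 := by
    have h3 : ∑ b : B, (Representation.character (ρ.comp B.subtype : Representation ℂ B _)) b = 0 := h
    rw [h3, mul_zero] at h1
    exact_mod_cast h1.symm
  have h3 : ∑ b : B, ρ b = 0 := by
    refine LinearMap.ext fun v => ?_
    rw [Submodule.finrank_eq_zero] at h2
    have h4 : (∑ b : B, ρ b) v ∈ Representation.invariants (ρ.comp B.subtype) := by
      rw [Representation.mem_invariants]
      intro c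
      change ρ c ((∑ b : B, ρ b) v) = _
      rw [LinearMap.sum_apply, map_sum]
      refine Fintype.sum_equiv (Equiv.mulLeft c) _ _ fun b => ?_
      rw [Equiv.coe_mulLeft, Subgroup.coe_mul, map_mul]
      rfl
    rw [h2, Submodule.mem_bot] at h4
    rw [h4]
    rfl
  have h4 : ∀ b : B, ρ.character (g * b) = LinearMap.trace ℂ _ (ρ g * ρ b) := by
    intro b
    rw [Representation.character, map_mul]
  rw [Finset.sum_congr rfl fun b _ => h4 b, ← map_sum, ← Finset.mul_sum, h3, mul_zero, map_zero]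

end A

section B

variable {Y : Type*} [Group Y] [Fintype Y] (B : Subgroup Y) [Fintype B] {Ω : Type*} [MulAction Y Ω] [Fintype Ω]

theorem natCard_fixedBy (y : Y) : (Nat.card (fixedBy Ω y) : ℂ) = ∑ α : Ω,
    haveI := Classical.propDecidable; if y • α = α then (1 : ℂ) else 0 := by
  classical
  rw [Finset.sum_boole, ← Fintype.card_subtype, ← Nat.card_eq_fintype_card]
  rfl

/-- An irreducible character without `B`-invariants is not a constituent of a principal series
permutation character. -/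
theorem sum_fix_eq_zero (hPS : PS B Ω) {χ : Y → ℂ} (hχ : IsIrrCharacter Y χ) (h : ∑ b : B, χ b = 0) :
    ∑ y : Y, χ y * (Nat.card (fixedBy Ω y) : ℂ) = 0 := by
  classical
  have hcl := isIrr_isClassFunction hχ
  have key : ∀ α : Ω, ∑ y : Y, χ y * (if y • α = α then (1 : ℂ) else 0) = 0 := by
    intro α
    have h1 := hPS (fun ω => ∑ y : Y, χ y * (if y • ω = α then (1 : ℂ) else 0)) ?_
    · exact congrFun h1 α
    · intro g ω
      have h2 : ∀ b : B, ∑ y : Y, χ y * (if y • g • (b : Y) • ω = α then (1 : ℂ) else 0) =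
          ∑ z : Y, χ (g⁻¹ * z * (b : Y)⁻¹) * (if z • ω = α then (1 : ℂ) else 0) := by
        intro b
        refine Fintype.sum_equiv (Equiv.mulRight (g * (b : Y))) _ _ fun y => ?_
        rw [Equiv.coe_mulRight, mul_smul, mul_smul]
        congr 1
        rw [← hcl y g⁻¹]
        congr 1
        group
      rw [Finset.sum_congr rfl fun b _ => h2 b, Finset.sum_comm]
      refine Finset.sum_eq_zero fun z _ => ?_
      rw [← Finset.sum_mul]
      have h3 : ∑ b : B, χ (g⁻¹ * z * (b : Y)⁻¹) = ∑ b : B, χ (g⁻¹ * z * b) :=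
        Fintype.sum_equiv (Equiv.inv B) _ _ fun b => by simp
      rw [h3, sum_mul_eq_zero B hχ h, zero_mul]
  have h4 : ∀ y : Y, χ y * (Nat.card (fixedBy Ω y) : ℂ) = ∑ α : Ω, χ y * (if y • α = α then (1 : ℂ) else 0) := by
    intro y
    rw [natCard_fixedBy, Finset.mul_sum]
  rw [Finset.sum_congr rfl fun y _ => h4 y, Finset.sum_comm]
  exact Finset.sum_eq_zero fun α _ => key α

/-- Frobenius reciprocity for the permutation character on cosets. -/
theorem frob {χ : Y → ℂ} (hcl : IsClassFunction Y χ) :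
    ∑ y : Y, χ y * (Nat.card (fixedBy (Y ⧸ B) y) : ℂ) = (B.index : ℂ) * ∑ b : B, χ b := by
  classical
  have : Fintype (Y ⧸ B) := Fintype.ofFinite _
  have h4 : ∀ y : Y, χ y * (Nat.card (fixedBy (Y ⧸ B) y) : ℂ) =
      ∑ α : Y ⧸ B, χ y * (if y • α = α then (1 : ℂ) else 0) := by
    intro y
    rw [natCard_fixedBy, Finset.mul_sum]
    refine Finset.sum_congr rfl fun α _ => ?_
    congr
  rw [Finset.sum_congr rfl fun y _ => h4 y, Finset.sum_comm]
  have h5 : ∀ α : Y ⧸ B, ∑ y : Y, χ y * (if y • α = α then (1 : ℂ) else 0) = ∑ b : B, χ b := by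
    intro α
    obtain ⟨g, rfl⟩ := QuotientGroup.mk_surjective α
    have h6 : ∑ y : Y, χ y * (if y • (QuotientGroup.mk g : Y ⧸ B) = QuotientGroup.mk g then (1 : ℂ) else 0) =
        ∑ y : Y, χ y * (if y ∈ B then (1 : ℂ) else 0) := by
      refine Fintype.sum_equiv (MulAut.conj g⁻¹).toEquiv _ _ fun y => ?_
      have h7 : χ ((MulAut.conj g⁻¹).toEquiv y) = χ y := hcl y g⁻¹
      rw [h7]
      congr 1
      have h8 : (y • (QuotientGroup.mk g : Y ⧸ B) = QuotientGroup.mk g) ↔ (MulAut.conj g⁻¹).toEquiv y ∈ B := by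
        change (QuotientGroup.mk (y * g) : Y ⧸ B) = QuotientGroup.mk g ↔ g⁻¹ * y * g⁻¹⁻¹ ∈ B
        rw [eq_comm, QuotientGroup.eq, inv_inv, mul_assoc]
      by_cases h9 : (MulAut.conj g⁻¹).toEquiv y ∈ B
      · rw [if_pos h9, if_pos (h8.2 h9)]
      · rw [if_neg h9, if_neg fun h => h9 (h8.1 h)]
    rw [h6]
    simp_rw [mul_ite, mul_one, mul_zero]
    rw [← Finset.sum_filter]
    exact Finset.sum_subtype _ (fun u => by simp) _
  rw [Finset.sum_congr rfl fun α _ => h5 α, Finset.sum_const, Finset.card_univ, nsmul_eq_mul,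
    Subgroup.index, Nat.card_eq_fintype_card]

end B

section C

variable {Y : Type*} [Group Y] [Fintype Y] {Ω : Type*} [MulAction Y Ω] [Fintype Ω]

theorem isCharacter_perm : IsCharacter Y (fun y => (Nat.card (fixedBy Ω y) : ℂ)) := by
  have h := isCharacter_of_rep (permRep ℂ Y Ω)
  have h2 : (permRep ℂ Y Ω).character = fun y => (Nat.card (fixedBy Ω y) : ℂ) := by
    funext y
    exact Cfsg.Agent.PermutationGroups.PermChar.permRep_character y
  rwa [h2] at h

/-- **The multiplicity of `ψ^Y` in a principal series permutation character.** -/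
theorem mult_eq (B U : Subgroup Y) [Fintype B] [Fintype U] (hPS : PS B Ω) (ψ : U →* ℂˣ)
    {St : Y → ℂ} (hSt : IsIrrCharacter Y St)
    (ha : mult (Y ⧸ B) ψ.ker = 1) (hb : ∑ u : U, ((ψ u⁻¹ : ℂˣ) : ℂ) * St u = (Nat.card U : ℂ))
    (hc : ∑ b : B, St b ≠ 0) :
    (mult Ω ψ.ker : ℂ) = classInner (fun y : Y => (Nat.card (fixedBy Ω y) : ℂ)) St := by
  classical
  have : Fintype (IrrCharacter Y) := @Fintype.ofFinite _ finite_irr
  have : Fintype (Y ⧸ B) := Fintype.ofFinite _
  have hU0 : (Nat.card U : ℂ) ≠ 0 := card_ne_zero_complex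
  obtain ⟨a, hπ⟩ := exists_nat_comb (isCharacter_perm (Y := Y) (Ω := Ω))
  obtain ⟨b, hβ⟩ := exists_nat_comb (isCharacter_perm (Y := Y) (Ω := Y ⧸ B))
  -- the multiplicities of `ψ`
  have hcex : ∀ χ : IrrCharacter Y, ∃ c : ℕ, ∑ u : U, ((ψ u⁻¹ : ℂˣ) : ℂ) * (χ : Y → ℂ) u = (Nat.card U : ℂ) * c := by
    intro χ
    have h1 : IsCharacter U (fun u : U => (χ : Y → ℂ) u) :=
      isCharacter_comp U.subtype (isIrr_isCharacter χ.2)
    have h2 : IsCharacter U (fun u : U => ((ψ u : ℂˣ) : ℂ)) :=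
      isIrr_isCharacter (Cfsg.Agent.Characters.Linear.isIrrCharacter_hom ψ)
    obtain ⟨c, hc⟩ := classInner_isNat h1 h2
    refine ⟨c, ?_⟩
    rw [← hc, classInner_def, ← mul_assoc, mul_inv_cancel₀ hU0, one_mul]
    refine Finset.sum_congr rfl fun u _ => ?_
    rw [← isCharacter_apply_inv h2 u, mul_comm]
  choose c hc' using hcex
  have hsum : ∀ (m : IrrCharacter Y → ℕ) (f : Y → ℂ), f = ∑ χ : IrrCharacter Y, m χ • (χ : Y → ℂ) →
      ∑ u : U, ((ψ u⁻¹ : ℂˣ) : ℂ) * f u = (Nat.card U : ℂ) * ((∑ χ, m χ * c χ : ℕ) : ℂ) := by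
    intro m f hf
    have h1 : ∀ u : U, ((ψ u⁻¹ : ℂˣ) : ℂ) * f u =
        ∑ χ : IrrCharacter Y, (m χ : ℂ) * (((ψ u⁻¹ : ℂˣ) : ℂ) * (χ : Y → ℂ) u) := by
      intro u
      rw [hf, Finset.sum_apply, Finset.mul_sum]
      refine Finset.sum_congr rfl fun χ _ => ?_
      rw [Pi.smul_apply, nsmul_eq_mul]
      ring
    rw [Finset.sum_congr rfl fun u _ => h1 u, Finset.sum_comm]
    push_cast
    rw [Finset.mul_sum]
    refine Finset.sum_congr rfl fun χ _ => ?_
    rw [← Finset.mul_sum, hc']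
    ring
  -- the coset space
  have h1 : ∑ χ, b χ * c χ = 1 := by
    have h2 := hsum b _ hβ
    have h3 := sum_char (U := U) (Ω := Y ⧸ B) ψ
    rw [ha] at h3
    have h4 : ∀ u : U, (Nat.card (fixedBy (Y ⧸ B) u) : ℂ) = (Nat.card (fixedBy (Y ⧸ B) (u : Y)) : ℂ) := fun _ => rfl
    rw [Finset.sum_congr rfl fun u _ => by rw [h4 u], h2] at h3
    have h5 := mul_left_cancel₀ hU0 h3
    exact_mod_cast h5
  set S : IrrCharacter Y := ⟨St, hSt⟩ with hS
  have hcS : c S = 1 := by
    have h2 := hc' S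
    rw [hb] at h2
    have h3 : (Nat.card U : ℂ) * ((c S : ℕ) : ℂ) = (Nat.card U : ℂ) * ((1 : ℕ) : ℂ) := by
      rw [← h2]; simp
    exact_mod_cast mul_left_cancel₀ hU0 h3
  have hbχ : ∀ χ : IrrCharacter Y, b χ = 0 → ∑ y : B, (χ : Y → ℂ) y = 0 := by
    intro χ h2
    have h3 := classInner_sum_nsmul_irr b χ
    rw [← hβ, h2, Nat.cast_zero, classInner_def, mul_eq_zero] at h3
    have h4 := h3.resolve_left (inv_ne_zero card_ne_zero_complex)
    have h5 := congrArg conj h4
    rw [map_sum, map_zero] at h5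
    have h6 : ∑ y : Y, (χ : Y → ℂ) y * (Nat.card (fixedBy (Y ⧸ B) y) : ℂ) = 0 := by
      rw [← h5]
      refine Finset.sum_congr rfl fun y _ => ?_
      rw [map_mul, Complex.conj_conj, Complex.conj_natCast, mul_comm]
    rw [frob B (isIrr_isClassFunction χ.2), mul_eq_zero] at h6
    refine h6.resolve_left ?_
    exact_mod_cast Subgroup.index_ne_zero_of_finite
  have hbS : b S ≠ 0 := fun h2 => hc (hbχ S h2)
  have haχ : ∀ χ : IrrCharacter Y, b χ = 0 → a χ = 0 := by
    intro χ h2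
    have h3 := sum_fix_eq_zero B hPS χ.2 (hbχ χ h2)
    have h4 := classInner_sum_nsmul_irr a χ
    rw [← hπ, classInner_def] at h4
    have h5 : ∑ y : Y, (Nat.card (fixedBy Ω y) : ℂ) * conj ((χ : Y → ℂ) y) = 0 := by
      have h6 := congrArg conj h3
      rw [map_sum, map_zero] at h6
      rw [← h6]
      refine Finset.sum_congr rfl fun y _ => ?_
      rw [map_mul, Complex.conj_natCast, mul_comm]
    rw [h5, mul_zero] at h4
    exact_mod_cast h4.symm
  have hcχ : ∀ χ : IrrCharacter Y, χ ≠ S → a χ * c χ = 0 := by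
    intro χ hne
    by_cases h2 : b χ = 0
    · rw [haχ χ h2, zero_mul]
    · have h3 : b χ * c χ + b S * c S ≤ 1 := by
        rw [← h1, ← Finset.add_sum_erase _ _ (Finset.mem_univ S), add_comm]
        refine Nat.add_le_add_left ?_ _
        exact Finset.single_le_sum (f := fun χ => b χ * c χ) (fun _ _ => Nat.zero_le _)
          (Finset.mem_erase.2 ⟨hne, Finset.mem_univ χ⟩)
      have h4 : 1 ≤ b S * c S := by
        rw [hcS, mul_one]; exact Nat.one_le_iff_ne_zero.2 hbS
      have h5 : b χ * c χ = 0 := by omega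
      rcases Nat.mul_eq_zero.1 h5 with h6 | h6
      · exact absurd h6 h2
      · rw [h6, mul_zero]
  have h2 : ∑ χ, a χ * c χ = a S := by
    rw [Finset.sum_eq_single S (fun χ _ h => hcχ χ h) (fun h => absurd (Finset.mem_univ _) h), hcS, mul_one]
  have h3 := hsum a _ hπ
  rw [h2] at h3
  have h4 := sum_char (U := U) (Ω := Ω) ψ
  have h5 : ∀ u : U, (Nat.card (fixedBy Ω u) : ℂ) = (Nat.card (fixedBy Ω (u : Y)) : ℂ) := fun _ => rfl
  rw [Finset.sum_congr rfl fun u _ => by rw [h5 u], h3] at h4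
  rw [← mul_left_cancel₀ hU0 h4]
  have h6 := classInner_sum_nsmul_irr a S
  rw [← hπ] at h6
  exact h6.symm

end C

end Cfsg.Agent.H969.TT.TopAbs
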