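import Cfsg.Agent.H969.TT.Dich

/-!
# Theorem D of HUB H1 for a model of the socle (helper969)

`AS G Ω N`, `K ≃* N`, `R : RGD cs h p T n X` in `K`, `GG = ⊤`, `CommGen`, `p ∣ #Ω`: the image in `N` of the Borel
subgroup of `K` is transitive on `Ω` (`of_model`).
-/

set_option autoImplicit false
set_option linter.unusedSectionVars false

namespace Cfsg.Agent.H969.TT.DichIso

open Cfsg CoxeterSystem Cfsg.Agent.ChevalleyStructure.CoxeterGeom Cfsg.Agent.Tits.Roots Cfsg.Agent.Tits.Core
  Cfsg.Agent.Nodes.Reps Cfsg.Agent.Nodes.BNOf Cfsg.Agent.Nodes.Bruhat Cfsg.Agent.Nodes.RGDLib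
  Cfsg.Agent.Omega.EH3.Kf.Lev Cfsg.Agent.H969.TT.Principal

variable {I W K K' : Type*} [Fintype I] [DecidableEq I] [Group W] [Group K] [Group K'] {M : CoxeterMatrix I}
  {cs : CoxeterSystem M W} {A : I → I → ℤ} {h : IsCartan M A} {p : ℕ} {T : Subgroup K}
  {n : I → K} {X : (I → ℤ) → Subgroup K}

theorem map_Sup (f : K →* K') (X : (I → ℤ) → Subgroup K) (S : Set (I → ℤ)) :
    RGD.Sup (fun x => (X x).map f) S = (RGD.Sup X S).map f := by
  apply le_antisymm
  · exact RGD.Sup_le fun x hx => Subgroup.map_mono (RGD.le_Sup hx)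
  · rw [Subgroup.map_le_iff_le_comap]
    refine RGD.Sup_le fun x hx => ?_
    rw [← Subgroup.map_le_iff_le_comap]
    exact RGD.le_Sup (X := fun x => (X x).map f) hx

theorem map_B (f : K →* K') : RGD.B cs h (T.map f) (fun x => (X x).map f) = (RGD.B cs h T X).map f := by
  rw [RGD.B, RGD.B, map_Sup, Subgroup.map_sup]

theorem map_GG (f : K →* K') : GG cs h (T.map f) (fun x => (X x).map f) = (GG cs h T X).map f := by
  rw [GG, GG, map_Sup, Subgroup.map_sup]

theorem map_commGen (f : K →* K') (hC : CommGen cs h X) : CommGen cs h (fun x => (X x).map f) := by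
  intro r hr h0 hns
  rw [map_Sup, ← Subgroup.map_commutator]
  exact Subgroup.map_mono (hC r hr h0 hns)

/-- **Theorem D** for a model `K` of the socle. -/
theorem of_model [Finite W] [Fact p.Prime] {G Ω : Type*} [Group G] [MulAction G Ω] {N : Subgroup G}
    (AA : Cfsg.Agent.H384.TwoTrans.AS G Ω N) (e : K ≃* N) (R : RGD cs h p T n X)
    (hG : GG cs h T X = ⊤) (hC : CommGen cs h X) (hp : p ∣ Nat.card Ω) (α β : Ω) :
    ∃ b ∈ RGD.B cs h T X, e b • α = β := by
  have hinj : Function.Injective e.toMonoidHom := e.injective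
  have R' := rgd_map_of_injective R e.toMonoidHom hinj
  have hG' : GG cs h (T.map e.toMonoidHom) (fun x => (X x).map e.toMonoidHom) = ⊤ := by
    rw [map_GG, hG, ← MonoidHom.range_eq_map, MonoidHom.range_eq_top]
    exact e.surjective
  obtain ⟨b, hb, hb'⟩ := Dich.AS_borel_transitive AA R' hG' (map_commGen e.toMonoidHom hC) hp α β
  rw [map_B] at hb
  obtain ⟨c, hc, rfl⟩ := hb
  exact ⟨c, hc, hb'⟩

end Cfsg.Agent.H969.TT.DichIso
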