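import Mathlib
import Cfsg.Agent.H969.TT.TopAbs

/-!
# The action on the orbits of a normalised subgroup (helper969)

* `act` : `K` normalising `V` acts on the `V`-orbits on `Ω`;
* `card_congr_rel` : two quotients of `Ω` by the same relation;
* `rel_iff` : `P = L V`: `P`-orbits on `Ω` and `L`-orbits on `Ω / V`;
* `mult_quot` : the multiplicities agree;
* `ps_quot` : principal series passes to `Ω / V`.
-/

set_option autoImplicit false
set_option linter.unusedSectionVars false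

namespace Cfsg.Agent.H969.TT.QuotAct

open MulAction Cfsg.Agent.H969.TT.Count Cfsg.Agent.H969.TT.TopAbs

theorem card_congr_rel {Ω A B : Type*} (a : Ω → A) (b : Ω → B) (ha : Function.Surjective a)
    (hb : Function.Surjective b) (h : ∀ x y, a x = a y ↔ b x = b y) (PA : A → Prop) (PB : B → Prop)
    (hP : ∀ x, PA (a x) ↔ PB (b x)) : Nat.card {z // PA z} = Nat.card {z // PB z} := by
  choose s hs using ha
  refine Nat.card_congr (Equiv.ofBijective (fun z : {z // PA z} => (⟨b (s z.1), by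
    rw [← hP, hs]; exact z.2⟩ : {z // PB z})) ⟨?_, ?_⟩)
  · intro z z' he
    have h1 : b (s z.1) = b (s z'.1) := congrArg Subtype.val he
    rw [← h, hs, hs] at h1
    exact Subtype.ext h1
  · rintro ⟨z, hz⟩
    obtain ⟨x, rfl⟩ := hb z
    refine ⟨⟨a x, (hP x).2 hz⟩, Subtype.ext ?_⟩
    change b (s (a x)) = b x
    rw [← h, hs]

variable {Y Ω : Type*} [Group Y] [MulAction Y Ω]

/-- The action of `K` on the `V`-orbits. -/
@[reducible] def act (V K : Subgroup Y) (hn : ∀ k ∈ K, ∀ v ∈ V, k * v * k⁻¹ ∈ V) :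
    MulAction K (orbitRel.Quotient V Ω) where
  smul k := Quotient.map' (fun ω => (k : Y) • ω) (by
    rintro a b ⟨v, hv⟩
    refine ⟨⟨(k : Y) * v * (k : Y)⁻¹, hn k k.2 v v.2⟩, ?_⟩
    simp only at hv ⊢
    rw [← hv]
    change ((k : Y) * v * (k : Y)⁻¹) • (k : Y) • b = (k : Y) • (v : Y) • b
    rw [mul_smul, inv_smul_smul, mul_smul])
  one_smul O := by
    obtain ⟨ω, rfl⟩ := Quotient.mk''_surjective O
    change Quotient.mk'' (((1 : K) : Y) • ω) = _
    rw [Subgroup.coe_one, one_smul]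
  mul_smul k l O := by
    obtain ⟨ω, rfl⟩ := Quotient.mk''_surjective O
    change Quotient.mk'' (((k * l : K) : Y) • ω) = Quotient.mk'' ((k : Y) • (l : Y) • ω)
    rw [Subgroup.coe_mul, mul_smul]

section

variable {V K : Subgroup Y} (hn : ∀ k ∈ K, ∀ v ∈ V, k * v * k⁻¹ ∈ V)

/-- `P = L V` -/
theorem rel_iff {P : Subgroup Y} {L : Subgroup K} (hVP : V ≤ P) (hLP : ∀ l ∈ L, (l : Y) ∈ P)
    (hP : ∀ g ∈ P, ∃ l ∈ L, ∃ v ∈ V, g = (l : Y) * v) (ω ω' : Ω) :
    letI := act (Ω := Ω) V K hn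
    (Quotient.mk'' ω : orbitRel.Quotient P Ω) = Quotient.mk'' ω' ↔
      (Quotient.mk'' (Quotient.mk'' ω : orbitRel.Quotient V Ω) : orbitRel.Quotient L (orbitRel.Quotient V Ω)) =
        Quotient.mk'' (Quotient.mk'' ω' : orbitRel.Quotient V Ω) := by
  letI := act (Ω := Ω) V K hn
  rw [mk_eq, mk_eq]
  constructor
  · rintro ⟨g, hg⟩
    obtain ⟨l, hl, v, hv, e⟩ := hP g g.2
    refine ⟨⟨l, hl⟩, ?_⟩
    change (Quotient.mk'' ((l : Y) • ω') : orbitRel.Quotient V Ω) = Quotient.mk'' ω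
    rw [mk_eq]
    refine ⟨⟨(l : Y) * v⁻¹ * (l : Y)⁻¹, hn l l.2 _ (inv_mem hv)⟩, ?_⟩
    have hg' : (g : Y) • ω' = ω := hg
    change ((l : Y) * v⁻¹ * (l : Y)⁻¹) • ω = (l : Y) • ω'
    rw [← hg', e, ← mul_smul]
    congr 1
    group
  · rintro ⟨l, hl⟩
    have hl' : (Quotient.mk'' (((l : K) : Y) • ω') : orbitRel.Quotient V Ω) = Quotient.mk'' ω := hl
    rw [eq_comm, mk_eq] at hl'
    obtain ⟨v, hv⟩ := hl'
    refine ⟨⟨(v : Y) * ((l : K) : Y), mul_mem (hVP v.2) (hLP l l.2)⟩, ?_⟩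
    change ((v : Y) * ((l : K) : Y)) • ω' = ω
    rw [mul_smul]
    exact hv

theorem surj_quot {L : Subgroup K} : letI := act (Ω := Ω) V K hn
    Function.Surjective (fun ω : Ω => (Quotient.mk'' (Quotient.mk'' ω : orbitRel.Quotient V Ω) :
      orbitRel.Quotient L (orbitRel.Quotient V Ω))) := by
  letI := act (Ω := Ω) V K hn
  intro O
  obtain ⟨O', rfl⟩ := Quotient.mk''_surjective O
  obtain ⟨ω, rfl⟩ := Quotient.mk''_surjective O'
  exact ⟨ω, rfl⟩

theorem card_orb_quot {P : Subgroup Y} {L : Subgroup K} (hVP : V ≤ P) (hLP : ∀ l ∈ L, (l : Y) ∈ P)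
    (hP : ∀ g ∈ P, ∃ l ∈ L, ∃ v ∈ V, g = (l : Y) * v) :
    letI := act (Ω := Ω) V K hn
    Nat.card (orbitRel.Quotient P Ω) = Nat.card (orbitRel.Quotient L (orbitRel.Quotient V Ω)) := by
  letI := act (Ω := Ω) V K hn
  have h1 := card_congr_rel (fun ω : Ω => (Quotient.mk'' ω : orbitRel.Quotient P Ω))
    (fun ω : Ω => (Quotient.mk'' (Quotient.mk'' ω : orbitRel.Quotient V Ω) :
      orbitRel.Quotient L (orbitRel.Quotient V Ω))) Quotient.mk''_surjective (surj_quot hn)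
    (rel_iff hn hVP hLP hP) (fun _ => True) (fun _ => True) (fun _ => Iff.rfl)
  rwa [Nat.card_congr (Equiv.subtypeUnivEquiv (fun _ => trivial)),
    Nat.card_congr (Equiv.subtypeUnivEquiv (fun _ => trivial))] at h1

theorem mult_quot {P : Subgroup Y} {L : Subgroup K} (hVP : V ≤ P) (hLP : ∀ l ∈ L, (l : Y) ∈ P)
    (hP : ∀ g ∈ P, ∃ l ∈ L, ∃ v ∈ V, g = (l : Y) * v) (N : Subgroup P) [N.Normal] (N' : Subgroup L) [N'.Normal]
    (hN : ∀ g : P, ∀ l : L, ∀ v ∈ V, (g : Y) = ((l : K) : Y) * v → (g ∈ N ↔ l ∈ N')) :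
    letI := act (Ω := Ω) V K hn
    mult Ω N = mult (orbitRel.Quotient V Ω) N' := by
  letI := act (Ω := Ω) V K hn
  refine card_congr_rel (fun ω : Ω => (Quotient.mk'' ω : orbitRel.Quotient P Ω))
    (fun ω : Ω => (Quotient.mk'' (Quotient.mk'' ω : orbitRel.Quotient V Ω) :
      orbitRel.Quotient L (orbitRel.Quotient V Ω))) Quotient.mk''_surjective (surj_quot hn)
    (rel_iff hn hVP hLP hP) _ _ fun ω => ?_
  rw [good_mk, good_mk]
  constructor
  · intro h1 l hl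
    have hl' : (Quotient.mk'' (((l : K) : Y) • ω) : orbitRel.Quotient V Ω) = Quotient.mk'' ω := hl
    rw [eq_comm, mk_eq] at hl'
    obtain ⟨v, hv⟩ := hl'
    have hv' : (v : Y) • ((l : K) : Y) • ω = ω := hv
    have h2 : (⟨(v : Y) * ((l : K) : Y), mul_mem (hVP v.2) (hLP l l.2)⟩ : P) ∈ stabilizer P ω := by
      rw [mem_stabilizer_iff]
      change ((v : Y) * ((l : K) : Y)) • ω = ω
      rw [mul_smul, hv']
    refine (hN _ l ((((l : K) : Y)⁻¹) * v * ((l : K) : Y)) ?_ ?_).1 (h1 h2)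
    · have := hn (l : K)⁻¹ (inv_mem (l : K).2) v v.2
      rwa [inv_inv] at this
    · change (v : Y) * ((l : K) : Y) = _
      group
  · intro h1 g hg
    obtain ⟨l, hl, v, hv, e⟩ := hP g g.2
    refine (hN g ⟨l, hl⟩ v hv e).2 (h1 ?_)
    rw [mem_stabilizer_iff]
    change (Quotient.mk'' ((l : Y) • ω) : orbitRel.Quotient V Ω) = Quotient.mk'' ω
    rw [mk_eq]
    refine ⟨⟨(l : Y) * v⁻¹ * (l : Y)⁻¹, hn l l.2 _ (inv_mem hv)⟩, ?_⟩
    have hg' : (g : Y) • ω = ω := hg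
    change ((l : Y) * v⁻¹ * (l : Y)⁻¹) • ω = (l : Y) • ω
    conv_lhs => rw [← hg', e, ← mul_smul]
    congr 1
    group

/-- Principal series passes to the quotient. -/
theorem ps_quot [Finite Y] {B : Subgroup Y} [Fintype B] (hPS : PS B Ω) {B' : Subgroup K} [Fintype B']
    (hd : ∀ g : Y, ∃ v ∈ V, ∃ l ∈ K, ∃ k : Y, ∃ b ∈ B, g = v * l * k * b ∧ ∀ c ∈ B', k⁻¹ * (c : Y) * k ∈ B) :
    letI := act (Ω := Ω) V K hn
    PS B' (orbitRel.Quotient V Ω) := by
  letI := act (Ω := Ω) V K hn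
  intro f hf
  have h1 := hPS (fun ω => f (Quotient.mk'' ω)) ?_
  · funext O
    obtain ⟨ω, rfl⟩ := Quotient.mk''_surjective O
    exact congrFun h1 ω
  · intro g ω
    obtain ⟨v, hv, l, hl, k, b₀, hb₀, rfl, hk⟩ := hd g
    -- remove `b₀`
    have h2 : ∑ b : B, f (Quotient.mk'' ((v * l * k * b₀) • (b : Y) • ω)) =
        ∑ b : B, f (Quotient.mk'' ((v * l * k) • (b : Y) • ω)) := by
      refine Fintype.sum_equiv (Equiv.mulLeft (⟨b₀, hb₀⟩ : B)) _ _ fun b => ?_
      rw [Equiv.coe_mulLeft, Subgroup.coe_mul]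
      congr 2
      rw [mul_smul (v * l * k), mul_smul b₀]
    rw [h2]
    -- remove `v`
    set F : B → ℂ := fun b => f ((⟨l, hl⟩ : K) • (Quotient.mk'' (k • (b : Y) • ω) : orbitRel.Quotient V Ω)) with hF
    have h3 : ∀ b : B, f (Quotient.mk'' ((v * l * k) • (b : Y) • ω)) = F b := by
      intro b
      rw [hF]
      congr 1
      change (Quotient.mk'' _ : orbitRel.Quotient V Ω) = Quotient.mk'' (l • k • (b : Y) • ω)
      rw [mk_eq]
      refine ⟨⟨v, hv⟩, ?_⟩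
      change v • l • k • (b : Y) • ω = (v * l * k) • (b : Y) • ω
      rw [mul_smul, mul_smul]
    rw [Finset.sum_congr rfl fun b _ => h3 b]
    -- average over `B'`
    have h4 : ∀ c : B', ∑ b : B, f ((⟨l, hl⟩ : K) • (c : K) • (Quotient.mk'' (k • (b : Y) • ω) :
        orbitRel.Quotient V Ω)) = ∑ b : B, F b := by
      intro c
      refine Fintype.sum_equiv (Equiv.mulLeft (⟨k⁻¹ * ((c : K) : Y) * k, hk c c.2⟩ : B)) _ _ fun b => ?_
      rw [hF]
      change f (Quotient.mk'' (l • ((c : K) : Y) • k • (b : Y) • ω)) =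
        f (Quotient.mk'' (l • k • ((k⁻¹ * ((c : K) : Y) * k * (b : Y)) • ω)))
      congr 3
      rw [mul_smul, mul_smul, mul_smul, smul_inv_smul]
    have h5 : (Nat.card B' : ℂ) * ∑ b : B, F b = 0 := by
      have h6 : ∑ c : B', ∑ b : B, f ((⟨l, hl⟩ : K) • (c : K) • (Quotient.mk'' (k • (b : Y) • ω) :
          orbitRel.Quotient V Ω)) = (Nat.card B' : ℂ) * ∑ b : B, F b := by
        rw [Finset.sum_congr rfl fun c _ => h4 c, Finset.sum_const, Finset.card_univ, nsmul_eq_mul,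
          Nat.card_eq_fintype_card]
      rw [← h6, Finset.sum_comm]
      exact Finset.sum_eq_zero fun b _ => hf _ _
    have h7 : (Nat.card B' : ℂ) ≠ 0 := by
      have : Finite B' := inferInstance
      exact_mod_cast Nat.card_pos.ne'
    exact (mul_eq_zero.1 h5).resolve_left h7

end

end Cfsg.Agent.H969.TT.QuotAct
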