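import Cfsg.Agent.H969.TT.TopRGD
import Cfsg.Agent.H969.TT.QuotAct
import Cfsg.Agent.Nodes.ClsSub

/-!
# Characters of `U` with a given support (helper969)

`R : RGD cs h p T n X` in a finite group `Y`, `GG = ⊤`, `J` a set of nodes, `ψ : U →* ℂˣ` trivial on `V_J` and nontrivial
on the simple root groups of `J`; `Ω` a finite `Y`-set with `PS B Ω`. Then
`mult Ω ψ.ker = ∑ K ⊆ J, (-1) ^ |K| #(P_K-orbits on Ω)` (`mult_levi`).
-/

set_option autoImplicit false
set_option linter.unusedSectionVars false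

namespace Cfsg.Agent.H969.TT.Levi

open Cfsg CoxeterSystem Cfsg.Agent.ChevalleyStructure.CoxeterGeom Cfsg.Agent.Tits.Roots Cfsg.Agent.Tits.Core
  Cfsg.Agent.Tits.Exchange Cfsg.Agent.Nodes.Comb
  Cfsg.Agent.Nodes.Reps Cfsg.Agent.Nodes.BNOf Cfsg.Agent.Nodes.OppDec Cfsg.Agent.Nodes.Bruhat
  Cfsg.Agent.Nodes.LeviDec Cfsg.Agent.Nodes.StabComb Cfsg.Agent.Nodes.RGDLib Cfsg.Agent.Nodes.SubComb
  Cfsg.Agent.Nodes.Sub Cfsg.Agent.Nodes.ClsSub
  Cfsg.Agent.H969.TT.Count Cfsg.Agent.H969.TT.TopAbs Cfsg.Agent.H969.TT.TopRGD Cfsg.Agent.H969.TT.QuotAct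

variable {I W Y : Type*} [Fintype I] [DecidableEq I] [Group W] [Group Y] {M : CoxeterMatrix I}
  {cs : CoxeterSystem M W} {A : I → I → ℤ} {h : IsCartan M A} {p : ℕ} {T : Subgroup Y} {n : I → Y}
  {X : (I → ℤ) → Subgroup Y}

theorem pi_eq_sum_sr (x : I → ℤ) : x = ∑ k, x k • sr k := by
  funext j
  rw [Finset.sum_apply, Finset.sum_eq_single j]
  · rw [Pi.smul_apply, sr_self, smul_eq_mul, mul_one]
  · intro k _ hk
    rw [Pi.smul_apply, sr_ne (Ne.symm hk), smul_zero]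
  · intro hj; exact absurd (Finset.mem_univ j) hj

/-- representatives of elements without left descents in `J` conjugate `B_J` into `B`. -/
theorem conj_BJ_le (R : RGD cs h p T n X) {J : Set I} {w : W} {k : Y} (hk : Rp cs R.nsys w k)
    (hw : ∀ j ∈ J, 0 ≤ rep cs h w⁻¹ (sr j)) {c : Y} (hc : c ∈ BJ cs h T X J) : k⁻¹ * c * k ∈ RGD.B cs h T X := by
  have h1 : BJ cs h T X J ≤ (RGD.B cs h T X).comap (MulAut.conj k⁻¹).toMonoidHom := by
    refine sup_le (fun t ht => ?_) (RGD.Sup_le fun x hx a ha => ?_)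
    · change k⁻¹ * t * (k⁻¹)⁻¹ ∈ RGD.B cs h T X
      refine RGD.T_le_B ?_
      exact (Subgroup.mem_normalizer_iff.1 (inv_mem hk.mem_normalizer) t).1 ht
    · change k⁻¹ * a * (k⁻¹)⁻¹ ∈ RGD.B cs h T X
      rw [inv_inv]
      refine RGD.X_le_B (hx.1.act w⁻¹) ?_ (R.conj_mem' hk hx.1 ha)
      rw [pi_eq_sum_sr x, map_sum]
      refine Finset.sum_nonneg fun i _ => ?_
      rw [map_smul]
      by_cases hi : i ∈ J
      · exact smul_nonneg (hx.2.1 i) (hw i hi)
      · rw [hx.2.2 i hi, zero_smul]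
  have h2 := h1 hc
  change k⁻¹ * c * (k⁻¹)⁻¹ ∈ RGD.B cs h T X at h2
  rwa [inv_inv] at h2

/-- `g = v l k b` with `v ∈ V_J`, `l ∈ L_J`, `b ∈ B` and `k⁻¹ B_J k ≤ B`. -/
theorem exists_dec [Finite W] (R : RGD cs h p T n X) (hG : GG cs h T X = ⊤) (J : Set I) (g : Y) :
    ∃ v ∈ VJ cs h X J, ∃ l ∈ LJ cs h T X J, ∃ k : Y, ∃ b ∈ RGD.B cs h T X, g = v * l * k * b ∧
      ∀ c ∈ BJ cs h T X J, k⁻¹ * c * k ∈ RGD.B cs h T X := by
  have hg : g ∈ GG cs h T X := by rw [hG]; exact Subgroup.mem_top g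
  obtain ⟨w, b₁, hb₁, k, hk, b₂, hb₂, rfl⟩ := (mem_GG R).1 hg
  obtain ⟨v, hv, hmin⟩ := exists_min (cs := cs) w⁻¹ J
  obtain ⟨m, hm⟩ := exists_rp cs R.nsys v
  have hm' : Rp cs R.nsys (v⁻¹ * w) (m⁻¹ * k) := hm.inv.mul hk
  have hmJ : m ∈ LJ cs h T X J := rp_mem_LJ R hv hm
  obtain ⟨l, hl, v', hv', e⟩ := (mem_PJ R).1 (B_le_PJ (J := J) hb₁)
  have h1 : l * v' * l⁻¹ ∈ VJ cs h X J :=
    (Subgroup.mem_normalizer_iff.1 (LJ_le_normalizer_VJ R J hl) v').1 hv'
  refine ⟨l * v' * l⁻¹, h1, l * m, mul_mem hl hmJ, m⁻¹ * k, b₂, hb₂, ?_, ?_⟩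
  · rw [e]; group
  · intro c hc
    refine conj_BJ_le R hm' (fun j hj => ?_) hc
    rw [mul_inv_rev, inv_inv]
    exact nonneg_of_min cs h hv hmin hj

section levi

variable {J' : Type*} [Fintype J'] [DecidableEq J'] (f : J' ↪ I)

/-- the root groups of the Levi subgroup -/
def X' (cs : CoxeterSystem M W) (h : IsCartan M A) (T : Subgroup Y) (X : (I → ℤ) → Subgroup Y) (f : J' ↪ I)
    (c : J' → ℤ) : Subgroup ↥(LJ cs h T X (Set.range f)) :=
  (X (iota (fun j => sr (f j)) c)).subgroupOf (LJ cs h T X (Set.range f))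

/-- the torus of the Levi subgroup -/
def T' (cs : CoxeterSystem M W) (h : IsCartan M A) (T : Subgroup Y) (X : (I → ℤ) → Subgroup Y) (f : J' ↪ I) :
    Subgroup ↥(LJ cs h T X (Set.range f)) := T.subgroupOf (LJ cs h T X (Set.range f))

/-- the reflections of the Levi subgroup -/
def n' (R : RGD cs h p T n X) (f : J' ↪ I) (j : J') : ↥(LJ cs h T X (Set.range f)) :=
  ⟨n (f j), n_mem_LJ R ⟨j, rfl⟩⟩

theorem X_le {W' : Type*} [Group W'] (cs' : CoxeterSystem (leviMatrix f M) W') [Finite W] {c : J' → ℤ}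
    (hc : IsRoot cs' (levi_isCartan f h) c) :
    X (iota (fun j => sr (f j)) c) ≤ LJ cs h T X (Set.range f) := by
  have : Finite W' := (levi_subSys (cs := cs) (h := h) f).finite cs' (levi_isCartan f h)
  have : Fintype W := Fintype.ofFinite W
  have : Fintype W' := Fintype.ofFinite W'
  exact X_le_LJ ((mem_RootsJ_range_iff f cs').2 ⟨c, hc, rfl⟩)

theorem rgd' {W' : Type*} [Group W'] (cs' : CoxeterSystem (leviMatrix f M) W') [Finite W] (R : RGD cs h p T n X) :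
    RGD cs' (levi_isCartan f h) p (T' cs h T X f) (n' R f) (X' cs h T X f) :=
  rgd_restrict (rgd_levi R f cs') _ (fun _ hc => X_le f cs' hc) (fun j => n_mem_LJ R ⟨j, rfl⟩)

variable {W' : Type*} [Group W'] (cs' : CoxeterSystem (leviMatrix f M) W')

theorem map_X' [Finite W] {c : J' → ℤ} (hc : IsRoot cs' (levi_isCartan f h) c) :
    (X' cs h T X f c).map (LJ cs h T X (Set.range f)).subtype = X (iota (fun j => sr (f j)) c) := by
  rw [X', Subgroup.subgroupOf_map_subtype]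
  exact inf_eq_left.2 (X_le f cs' hc)

theorem map_T' : (T' cs h T X f).map (LJ cs h T X (Set.range f)).subtype = T := by
  rw [T', Subgroup.subgroupOf_map_subtype]
  exact inf_eq_left.2 T_le_LJ

theorem map_Sup' [Finite W] {S' : Set (J' → ℤ)} (hS' : ∀ c ∈ S', IsRoot cs' (levi_isCartan f h) c)
    {S : Set (I → ℤ)} (h1 : ∀ x ∈ S, ∃ c ∈ S', x = iota (fun j => sr (f j)) c)
    (h2 : ∀ c ∈ S', iota (fun j => sr (f j)) c ∈ S) :
    (RGD.Sup (X' cs h T X f) S').map (LJ cs h T X (Set.range f)).subtype = RGD.Sup X S := by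
  apply le_antisymm
  · rw [Subgroup.map_le_iff_le_comap]
    refine RGD.Sup_le fun c hc => ?_
    rw [← Subgroup.map_le_iff_le_comap, map_X' f cs' (hS' c hc)]
    exact RGD.le_Sup (h2 c hc)
  · refine RGD.Sup_le fun x hx => ?_
    obtain ⟨c, hc, rfl⟩ := h1 x hx
    rw [← map_X' (cs := cs) (h := h) (T := T) (X := X) f cs' (hS' c hc)]
    exact Subgroup.map_mono (RGD.le_Sup hc)

theorem iota_nonneg_iff (c : J' → ℤ) : 0 ≤ iota (fun j => sr (f j)) c ↔ 0 ≤ c := by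
  constructor
  · intro h0 j
    have := h0 (f j)
    rwa [iota_levi_apply] at this
  · intro h0 k
    by_cases hk : ∃ j, f j = k
    · obtain ⟨j, rfl⟩ := hk
      rw [iota_levi_apply]
      exact h0 j
    · push Not at hk
      rw [iota_levi_apply_ne f c hk]
      exact le_refl _

theorem map_U' [Finite W] :
    (RGD.Sup (X' cs h T X f) (RGD.Pos cs' (levi_isCartan f h))).map (LJ cs h T X (Set.range f)).subtype =
      UJ cs h X (Set.range f) := by
  have : Finite W' := (levi_subSys (cs := cs) (h := h) f).finite cs' (levi_isCartan f h)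
  have : Fintype W := Fintype.ofFinite W
  have : Fintype W' := Fintype.ofFinite W'
  refine map_Sup' f cs' (fun c hc => hc.1) (fun x hx => ?_) fun c hc => ?_
  · obtain ⟨c, hc, rfl⟩ := (mem_RootsJ_range_iff f cs').1 (PosJ_subset _ hx)
    exact ⟨c, ⟨hc, (iota_nonneg_iff f c).1 hx.2.1⟩, rfl⟩
  · have h1 := (mem_RootsJ_range_iff (cs := cs) (h := h) f cs').2 ⟨c, hc.1, rfl⟩
    exact ⟨h1.1, (iota_nonneg_iff f c).2 hc.2, h1.2⟩

theorem map_B' [Finite W] :
    (RGD.B cs' (levi_isCartan f h) (T' cs h T X f) (X' cs h T X f)).map (LJ cs h T X (Set.range f)).subtype =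
      BJ cs h T X (Set.range f) := by
  rw [RGD.B, Subgroup.map_sup, map_T', map_U' f cs', BJ]

theorem map_GG' [Finite W] :
    (GG cs' (levi_isCartan f h) (T' cs h T X f) (X' cs h T X f)).map (LJ cs h T X (Set.range f)).subtype =
      LJ cs h T X (Set.range f) := by
  have : Finite W' := (levi_subSys (cs := cs) (h := h) f).finite cs' (levi_isCartan f h)
  have : Fintype W := Fintype.ofFinite W
  have : Fintype W' := Fintype.ofFinite W'
  rw [GG, Subgroup.map_sup, map_T']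
  change _ = T ⊔ RGD.Sup X (RootsJ cs h (Set.range f))
  congr 1
  refine map_Sup' f cs' (fun c hc => hc) (fun x hx => ?_) fun c hc => ?_
  · obtain ⟨c, hc, rfl⟩ := (mem_RootsJ_range_iff f cs').1 hx
    exact ⟨c, hc, rfl⟩
  · exact (mem_RootsJ_range_iff (cs := cs) (h := h) f cs').2 ⟨c, hc, rfl⟩

theorem GG'_eq_top [Finite W] :
    GG cs' (levi_isCartan f h) (T' cs h T X f) (X' cs h T X f) = ⊤ := by
  apply Subgroup.map_injective (LJ cs h T X (Set.range f)).subtype_injective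
  rw [map_GG' f cs', ← MonoidHom.range_eq_map, Subgroup.range_subtype]

theorem map_P' [Finite W] (R : RGD cs h p T n X) (K : Set J') :
    (RGD.B cs' (levi_isCartan f h) (T' cs h T X f) (X' cs h T X f) ⊔ Subgroup.closure (n' R f '' K)).map
      (LJ cs h T X (Set.range f)).subtype =
      BJ cs h T X (Set.range f) ⊔ Subgroup.closure (n '' (f '' K)) := by
  rw [Subgroup.map_sup, map_B' f cs', MonoidHom.map_closure]
  congr 2
  rw [← Set.image_comp, ← Set.image_comp]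
  rfl

/-- `P_K = P'_K V_J`. -/
theorem P_eq [Finite W] (R : RGD cs h p T n X) (K : Set J') :
    RGD.B cs h T X ⊔ Subgroup.closure (n '' (f '' K)) =
      (RGD.B cs' (levi_isCartan f h) (T' cs h T X f) (X' cs h T X f) ⊔ Subgroup.closure (n' R f '' K)).map
      (LJ cs h T X (Set.range f)).subtype ⊔ VJ cs h X (Set.range f) := by
  rw [map_P' f cs' R]
  have h1 : RGD.B cs h T X = BJ cs h T X (Set.range f) ⊔ VJ cs h X (Set.range f) := by
    apply le_antisymm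
    · refine sup_le (le_trans T_le_BJ le_sup_left) (RGD.Sup_le fun x hx => ?_)
      rcases mem_PosJ_or_NotJ (Set.range f) hx.1 hx.2 with h1 | h1
      · exact le_trans (X_le_BJ h1) le_sup_left
      · exact le_trans (RGD.le_Sup h1) le_sup_right
    · exact sup_le (BJ_le_B _) (VJ_le_B _)
  rw [h1, sup_assoc, sup_assoc, sup_comm (VJ cs h X (Set.range f))]

theorem mem_P_iff [Finite W] (R : RGD cs h p T n X) (K : Set J') {g : Y} :
    g ∈ RGD.B cs h T X ⊔ Subgroup.closure (n '' (f '' K)) ↔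
      ∃ l ∈ RGD.B cs' (levi_isCartan f h) (T' cs h T X f) (X' cs h T X f) ⊔ Subgroup.closure (n' R f '' K),
        ∃ v ∈ VJ cs h X (Set.range f), g = (l : Y) * v := by
  rw [P_eq f cs' R K]
  set P' := RGD.B cs' (levi_isCartan f h) (T' cs h T X f) (X' cs h T X f) ⊔ Subgroup.closure (n' R f '' K) with hP'
  have h2 : P'.map (LJ cs h T X (Set.range f)).subtype ≤
      Subgroup.normalizer (VJ cs h X (Set.range f) : Set Y) := by
    rintro _ ⟨l, -, rfl⟩
    exact LJ_le_normalizer_VJ R _ l.2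
  constructor
  · intro hg
    have h1 : g ∈ ((P'.map (LJ cs h T X (Set.range f)).subtype ⊔ VJ cs h X (Set.range f) : Subgroup Y) : Set Y) := hg
    rw [Subgroup.coe_mul_of_left_le_normalizer_right _ _ h2, Set.mem_mul] at h1
    obtain ⟨_, ⟨l, hl, rfl⟩, v, hv, e⟩ := h1
    exact ⟨l, hl, v, hv, e.symm⟩
  · rintro ⟨l, hl, v, hv, rfl⟩
    exact mul_mem (Subgroup.mem_sup_left ⟨l, hl, rfl⟩) (Subgroup.mem_sup_right hv)

theorem conj_V (R : RGD cs h p T n X) (J : Set I) : ∀ k ∈ LJ cs h T X J, ∀ v ∈ VJ cs h X J,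
    k * v * k⁻¹ ∈ VJ cs h X J := fun _ hk v hv =>
  (Subgroup.mem_normalizer_iff.1 (LJ_le_normalizer_VJ R J hk) v).1 hv

include cs' in
/-- **(★)**. -/
theorem mult_levi [Finite W] [Fintype Y] (R : RGD cs h p T n X) (hG : GG cs h T X = ⊤)
    {Ω : Type*} [Finite Ω] [MulAction Y Ω] [Fintype (RGD.B cs h T X)] (hPS : PS (RGD.B cs h T X) Ω)
    (ψ : ↥(RGD.Sup X (RGD.Pos cs h)) →* ℂˣ)
    (hψ0 : ∀ u : ↥(RGD.Sup X (RGD.Pos cs h)), (u : Y) ∈ VJ cs h X (Set.range f) → ψ u = 1)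
    (hψ : ∀ j, ∃ u : ↥(RGD.Sup X (RGD.Pos cs h)), (u : Y) ∈ X (sr (f j)) ∧ ψ u ≠ 1) :
    (mult Ω ψ.ker : ℂ) = ∑ K ∈ (Finset.univ : Finset J').powerset, (-1 : ℂ) ^ K.card *
      (nOrb (RGD.B cs h T X ⊔ Subgroup.closure (n '' (f '' (K : Set J')))) Ω : ℂ) := by
  classical
  set K₀ := LJ cs h T X (Set.range f) with hK₀
  set V := VJ cs h X (Set.range f) with hV
  have : Finite W' := (levi_subSys (cs := cs) (h := h) f).finite cs' (levi_isCartan f h)
  have hn := conj_V R (Set.range f)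
  set R' := rgd' f cs' R with hR'
  set U' := RGD.Sup (X' cs h T X f) (RGD.Pos cs' (levi_isCartan f h)) with hU'
  set B' := RGD.B cs' (levi_isCartan f h) (T' cs h T X f) (X' cs h T X f) with hB'
  have hUU : ∀ u ∈ U', ((u : K₀) : Y) ∈ UJ cs h X (Set.range f) := by
    intro u hu
    rw [← map_U' (T := T) f cs']
    exact ⟨u, hu, rfl⟩
  have hUU' : ∀ u ∈ U', ((u : K₀) : Y) ∈ RGD.Sup X (RGD.Pos cs h) := fun u hu => UJ_le_U _ (hUU u hu)
  let _ : Fintype K₀ := Fintype.ofFinite _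
  let _ : Fintype B' := Fintype.ofFinite _
  let _ := act (Ω := Ω) V K₀ hn
  let _ : Fintype (MulAction.orbitRel.Quotient V Ω) := Fintype.ofFinite _
  -- the restriction of `ψ`
  let ψ' : ↥U' →* ℂˣ := ψ.comp
    { toFun := fun u => ⟨((u : K₀) : Y), hUU' u u.2⟩
      map_one' := rfl
      map_mul' := fun _ _ => rfl }
  have hψ' : ∀ j, ∃ u : ↥U', (u : K₀) ∈ X' cs h T X f (sr j) ∧ ψ' u ≠ 1 := by
    intro j
    obtain ⟨u, hu, hne⟩ := hψ j
    have h1 : (u : Y) ∈ K₀ := X_le_LJ (PosJ_subset _ (sr_mem_PosJ (J := Set.range f) (Set.mem_range_self j))) hu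
    have h2 : (⟨u, h1⟩ : K₀) ∈ X' cs h T X f (sr j) := by
      change (u : Y) ∈ X (iota _ (sr j))
      rw [iota_sr]
      exact hu
    have h3 : sr j ∈ RGD.Pos cs' (levi_isCartan f h) := ⟨isRoot_sr cs' _ j, sr_nonneg j⟩
    exact ⟨⟨⟨u, h1⟩, RGD.le_Sup h3 h2⟩, h2, hne⟩
  have hB'B : ∀ c ∈ B', ((c : K₀) : Y) ∈ BJ cs h T X (Set.range f) := by
    intro c hc
    rw [← map_B' f cs']
    exact ⟨c, hc, rfl⟩
  have hPS' : PS B' (MulAction.orbitRel.Quotient V Ω) := by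
    refine ps_quot hn hPS fun g => ?_
    obtain ⟨v, hv, l, hl, k, b, hb, e, hc⟩ := exists_dec R hG (Set.range f) g
    exact ⟨v, hv, l, hl, k, b, hb, e, fun c hc' => hc _ (hB'B c hc')⟩
  have key := mult_eq_alt R' (GG'_eq_top f cs') hPS' ψ' hψ'
  have h3 : mult Ω ψ.ker = mult (MulAction.orbitRel.Quotient V Ω) ψ'.ker := by
    refine mult_quot (P := RGD.Sup X (RGD.Pos cs h)) (L := U') hn (VJ_le_U _) hUU' (fun g hg => ?_) _ _ ?_
    · obtain ⟨u, hu, v, hv, e⟩ := (mem_U_iff R (J := Set.range f)).1 hg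
      rw [← map_U' (T := T) f cs'] at hu
      obtain ⟨u', hu', rfl⟩ := hu
      exact ⟨u', hu', v, hv, e⟩
    · intro g l v hv e
      rw [MonoidHom.mem_ker, MonoidHom.mem_ker]
      have h4 : g = (⟨((l : K₀) : Y), hUU' l l.2⟩ : ↥(RGD.Sup X (RGD.Pos cs h))) * ⟨v, VJ_le_U _ hv⟩ := Subtype.ext e
      rw [h4, map_mul, hψ0 ⟨v, VJ_le_U _ hv⟩ hv, mul_one]
      exact Iff.rfl
  rw [h3, key]
  refine Finset.sum_congr rfl fun K _ => ?_
  congr 2
  symm
  refine card_orb_quot hn (P := RGD.B cs h T X ⊔ Subgroup.closure (n '' (f '' (K : Set J')))) ?_ ?_ ?_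
  · exact le_trans (VJ_le_B _) le_sup_left
  · intro l hl
    exact (mem_P_iff f cs' R _).2 ⟨l, hl, 1, one_mem _, (mul_one _).symm⟩
  · intro g hg
    exact (mem_P_iff f cs' R _).1 hg

end levi

end Cfsg.Agent.H969.TT.Levi
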