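import Cfsg.Agent.H969.TT.Principal
import Cfsg.Agent.H384.TwoTransRed

/-!
# Theorem D of HUB H1 (helper969)

* `dich` : `G` 2-transitive on `Ω`, `N ⊴ G`, `B ≤ N` with `G = N · N_G(B)`: `B` is transitive on `Ω`, or `PS B Ω`;
* `frattini` : this condition for the Borel subgroup `B` of a root group datum of `N`;
* `borel_transitive` : `R : RGD cs h p Tt n X` in `N ⊴ G`, `GG = ⊤`, `CommGen`, `G` 2-transitive on `Ω`, `N`
  transitive on `Ω`, `p ∣ #Ω`: the Borel subgroup of `N` is transitive on `Ω`;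
* `AS.borel_transitive` : the same for `AS G Ω T`.
-/

set_option autoImplicit false
set_option linter.unusedSectionVars false

namespace Cfsg.Agent.H969.TT.Dich

open MulAction Cfsg.Agent.H969.TT.TopAbs

section Dich

variable {G Ω : Type*} [Group G] [Finite G] [Finite Ω] [MulAction G Ω]

theorem exists_lambda [Fintype Ω] {f : Ω → ℂ} (hf : ∃ a b, f a ≠ f b) [∀ α : Ω, Fintype (stabilizer G α)] :
    ∃ α β : Ω, α ≠ β ∧ ∑ x : stabilizer G α, f (x • α) ≠ ∑ x : stabilizer G α, f (x • β) := by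
  classical
  by_contra hcon
  push Not at hcon
  obtain ⟨a, b, hab⟩ := hf
  have h1 : ∀ α : Ω, (Fintype.card Ω : ℂ) * f α = ∑ ω, f ω := by
    intro α
    have h3 : ∀ β : Ω, ∑ x : stabilizer G α, f (x • β) = (Fintype.card (stabilizer G α) : ℂ) * f α := by
      intro β
      have h4 : ∑ x : stabilizer G α, f (x • α) = (Fintype.card (stabilizer G α) : ℂ) * f α := by
        rw [Finset.sum_congr rfl fun (x : stabilizer G α) _ => congrArg f (show x • α = α from x.2),
          Finset.sum_const, Finset.card_univ, nsmul_eq_mul]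
      by_cases hβ : α = β
      · rw [← hβ, h4]
      · rw [← hcon α β hβ, h4]
    have h5 : ∑ β : Ω, ∑ x : stabilizer G α, f (x • β) =
        (Fintype.card (stabilizer G α) : ℂ) * ∑ ω, f ω := by
      rw [Finset.sum_comm]
      have h6 : ∀ x : stabilizer G α, ∑ β : Ω, f (x • β) = ∑ ω, f ω := fun x =>
        Fintype.sum_equiv (MulAction.toPerm x) _ _ fun _ => rfl
      rw [Finset.sum_congr rfl fun x _ => h6 x, Finset.sum_const, Finset.card_univ, nsmul_eq_mul]
    rw [Finset.sum_congr rfl fun β _ => h3 β, Finset.sum_const, Finset.card_univ, nsmul_eq_mul] at h5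
    have h7 : (Fintype.card (stabilizer G α) : ℂ) ≠ 0 := by exact_mod_cast Fintype.card_ne_zero
    apply mul_left_cancel₀ h7
    rw [← h5]
    ring
  have : Nonempty Ω := ⟨a⟩
  have h7 : (Fintype.card Ω : ℂ) ≠ 0 := by exact_mod_cast Fintype.card_ne_zero
  exact hab (mul_left_cancel₀ h7 ((h1 a).trans (h1 b).symm))

/-- **The dichotomy.** -/
theorem dich {N : Subgroup G} [N.Normal] (B : Subgroup N) [Fintype B]
    (h2 : ∀ a b c d : Ω, a ≠ b → c ≠ d → ∃ g : G, g • a = c ∧ g • b = d)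
    (hF : ∀ x : G, ∃ t : N, ∃ y : G, x = t * y ∧ ∀ b : N, b ∈ B → ∃ b' ∈ B, y * b * y⁻¹ = (b' : G)) :
    (∀ α β : Ω, ∃ b ∈ B, (b : G) • α = β) ∨ PS B Ω := by
  classical
  have : Fintype Ω := Fintype.ofFinite Ω
  have : ∀ α : Ω, Fintype (stabilizer G α) := fun α => Fintype.ofFinite _
  by_cases hPS : PS B Ω
  · exact Or.inr hPS
  left
  set E : (Ω → ℂ) → Prop := fun f => ∀ (g : N) (ω : Ω), ∑ b : B, f (g • (b : N) • ω) = 0 with hE
  -- `E` is invariant
  have hinv : ∀ (f : Ω → ℂ), E f → ∀ x : G, E (fun ω => f (x • ω)) := by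
    intro f hf x g ω
    obtain ⟨t, y, rfl, hy⟩ := hF x
    choose! c hcB hc using hy
    have hbij : Function.Bijective (fun b : B => (⟨c b, hcB b b.2⟩ : B)) := by
      rw [Fintype.bijective_iff_injective_and_card]
      refine ⟨fun b b' he => ?_, rfl⟩
      have h3 : c b = c b' := congrArg Subtype.val he
      have h4 := hc b b.2
      rw [h3, ← hc b' b'.2] at h4
      have h5 : ((b : N) : G) = (b' : N) := mul_left_cancel (mul_right_cancel h4)
      exact Subtype.ext (Subtype.ext h5)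
    have hyg : y * (g : G) * y⁻¹ ∈ N := ‹N.Normal›.conj_mem _ g.2 y
    have h6 := hf (t * ⟨y * g * y⁻¹, hyg⟩) (y • ω)
    rw [← h6]
    refine Fintype.sum_bijective _ hbij _ _ fun b => ?_
    change f (((t : G) * y) • (g : G) • ((b : N) : G) • ω) = f (((t : G) * (y * g * y⁻¹)) • ((c b : N) : G) • y • ω)
    rw [← hc b b.2]
    simp only [← mul_smul]
    congr 2
    group
  have hadd : ∀ (s : Finset (G)) (f : G → Ω → ℂ), (∀ x ∈ s, E (f x)) → E (fun ω => ∑ x ∈ s, f x ω) := by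
    intro s f hs g ω
    change ∑ b : B, ∑ x ∈ s, f x _ = 0
    rw [Finset.sum_comm]
    exact Finset.sum_eq_zero fun x hx => hs x hx g ω
  -- a nonconstant function in `E`
  obtain ⟨f, hf, hf0⟩ : ∃ f, E f ∧ f ≠ 0 := by
    by_contra hcon
    push Not at hcon
    exact hPS fun f hf => hcon f hf
  have hfc : ∃ a b, f a ≠ f b := by
    by_contra hcon
    push Not at hcon
    apply hf0
    funext ω
    have h3 := hf 1 ω
    have h4 : ∀ b : B, f ((1 : N) • (b : N) • ω) = f ω := fun b => hcon _ _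
    rw [Finset.sum_congr rfl fun b _ => h4 b, Finset.sum_const, Finset.card_univ, nsmul_eq_mul] at h3
    have h5 : (Fintype.card B : ℂ) ≠ 0 := by exact_mod_cast Fintype.card_ne_zero
    exact (mul_eq_zero.1 h3).resolve_left h5
  obtain ⟨α, β₀, hαβ, hne⟩ := exists_lambda (G := G) hfc
  set F : Ω → ℂ := fun ω => ∑ x : stabilizer G α, f (x • ω) with hFdef
  have hEF : E F := by
    intro g ω
    change ∑ b : B, ∑ x : stabilizer G α, f _ = 0
    rw [Finset.sum_comm]
    exact Finset.sum_eq_zero fun x _ => hinv f hf x g ω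
  -- `F` is constant outside `α`
  have hconst : ∀ ω, ω ≠ α → F ω = F β₀ := by
    intro ω hω
    obtain ⟨y, hy1, hy2⟩ := h2 α β₀ α ω hαβ hω.symm
    have hys : y ∈ stabilizer G α := hy1
    change ∑ x : stabilizer G α, f (x • ω) = ∑ x : stabilizer G α, f (x • β₀)
    rw [← hy2]
    refine Fintype.sum_equiv (Equiv.mulRight (⟨y, hys⟩ : stabilizer G α)) _ _ fun x => ?_
    congr 1
    change (x : G) • y • β₀ = ((x : G) * y) • β₀
    rw [mul_smul]
  -- one orbit
  have key : ∀ β : Ω, ∃ b ∈ B, ((b : N) : G) • α = β := by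
    intro β
    by_cases hβ : β = α
    · exact ⟨1, one_mem _, by rw [hβ, Subgroup.coe_one, one_smul]⟩
    obtain ⟨x, hx1, hx2⟩ := h2 α β β α (Ne.symm hβ) hβ
    set H : Ω → ℂ := fun ω => F ω - F (x⁻¹ • ω) with hH
    have hEH : ∀ (g : N) (ω : Ω), ∑ b : B, H (g • (b : N) • ω) = 0 := by
      intro g ω
      rw [hH, Finset.sum_sub_distrib, hEF g ω, hinv F hEF x⁻¹ g ω, sub_zero]
    have h3 := hEH 1 α
    by_contra hcon
    push Not at hcon
    set u := F α with hu
    set v := F β₀ with hv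
    have huv : u - v ≠ 0 := sub_ne_zero.2 hne
    have hxα : x⁻¹ • α = β := by rw [inv_smul_eq_iff, hx2]
    have hxβ : x⁻¹ • β = α := by rw [inv_smul_eq_iff, hx1]
    have h4 : ∀ b : B, H ((1 : N) • (b : N) • α) = if (b : N) • α = α then u - v else 0 := by
      intro b
      rw [one_smul]
      have hb1 : (b : N) • α ≠ β := hcon b b.2
      split_ifs with h5
      · rw [h5]
        change F α - F (x⁻¹ • α) = u - v
        rw [hxα, hconst β hβ]
      · change F ((b : N) • α) - F (x⁻¹ • (b : N) • α) = 0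
        rw [hconst _ h5, hconst, sub_self]
        intro h6
        apply hb1
        rw [inv_smul_eq_iff, hx1] at h6
        exact h6
    rw [Finset.sum_congr rfl fun b _ => h4 b, ← Finset.sum_filter, Finset.sum_const, nsmul_eq_mul] at h3
    rcases mul_eq_zero.1 h3 with h5 | h5
    · have h6 : (Finset.univ.filter fun b : B => (b : N) • α = α).card = 0 := by exact_mod_cast h5
      rw [Finset.card_eq_zero, Finset.filter_eq_empty_iff] at h6
      exact h6 (Finset.mem_univ (1 : B)) (by rw [Subgroup.coe_one, one_smul])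
    · exact huv h5
  intro γ δ
  obtain ⟨b, hb, hbγ⟩ := key γ
  obtain ⟨c, hc, hcδ⟩ := key δ
  refine ⟨c * b⁻¹, mul_mem hc (inv_mem hb), ?_⟩
  rw [← hcδ, ← hbγ, Subgroup.coe_mul, Subgroup.coe_inv, ← mul_smul, inv_mul_cancel_right]

end Dich

section RGD

open Cfsg CoxeterSystem Cfsg.Agent.ChevalleyStructure.CoxeterGeom Cfsg.Agent.Tits.Roots Cfsg.Agent.Tits.Core
  Cfsg.Agent.Nodes.Reps Cfsg.Agent.Nodes.BNOf Cfsg.Agent.Nodes.Bruhat
  Cfsg.Agent.Omega.EH3.Kf.Lev Cfsg.Agent.H969.TT.Principal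

variable {I W G : Type*} [Fintype I] [DecidableEq I] [Group W] [Group G] {M : CoxeterMatrix I}
  {cs : CoxeterSystem M W} {A : I → I → ℤ} {h : IsCartan M A} {p : ℕ} {N : Subgroup G} {T : Subgroup N}
  {n : I → N} {X : (I → ℤ) → Subgroup N}

/-- Frattini argument for the Borel subgroup. -/
theorem frattini [Finite G] [Finite W] [Fact p.Prime] [N.Normal] (R : RGD cs h p T n X) (hG : GG cs h T X = ⊤)
    (x : G) : ∃ t : N, ∃ y : G, x = t * y ∧ ∀ b : N, b ∈ RGD.B cs h T X → ∃ b' ∈ RGD.B cs h T X,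
      y * b * y⁻¹ = (b' : G) := by
  obtain ⟨P, hP⟩ := (IsPGroup.exists_le_sylow R.isPGroup_Upos : ∃ P : Sylow p N, RGD.Sup X (RGD.Pos cs h) ≤ P)
  have hPU : (P : Subgroup N) = RGD.Sup X (RGD.Pos cs h) :=
    Cfsg.Agent.Nodes.NormalForm.eq_U_of_isPGroup R P.isPGroup' hP (by rw [hG]; exact le_top)
  have h1 := Sylow.normalizer_sup_eq_top P
  have hx : x⁻¹ ∈ Subgroup.normalizer ((P : Subgroup N).map N.subtype : Set G) ⊔ N := by
    rw [h1]; exact Subgroup.mem_top _
  rw [← SetLike.mem_coe, Subgroup.mul_normal, Set.mem_mul] at hx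
  obtain ⟨z, hz, t, ht, e⟩ := hx
  refine ⟨⟨t⁻¹, inv_mem ht⟩, z⁻¹, ?_, ?_⟩
  · rw [← inv_inv x, ← e, mul_inv_rev]
  intro b hb
  have hy : z⁻¹ ∈ Subgroup.normalizer ((P : Subgroup N).map N.subtype : Set G) := inv_mem hz
  have hyN : z⁻¹ * (b : G) * (z⁻¹)⁻¹ ∈ N := ‹N.Normal›.conj_mem _ b.2 _
  refine ⟨⟨_, hyN⟩, ?_, rfl⟩
  rw [← Cfsg.Agent.Nodes.NormalForm.normalizer_U R, Subgroup.mem_inf]
  refine ⟨?_, by rw [hG]; exact Subgroup.mem_top _⟩
  have hbU : b ∈ Subgroup.normalizer (RGD.Sup X (RGD.Pos cs h) : Set N) := R.B_le_normalizer_U hb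
  have hbU' : (b : G) ∈ Subgroup.normalizer ((P : Subgroup N).map N.subtype : Set G) := by
    rw [Subgroup.mem_normalizer_iff]
    intro g
    rw [Subgroup.mem_normalizer_iff] at hbU
    constructor
    · rintro ⟨g', hg', rfl⟩
      refine ⟨b * g' * b⁻¹, ?_, rfl⟩
      change b * g' * b⁻¹ ∈ (P : Subgroup N)
      rw [hPU]
      exact (hbU g').1 (by rw [← hPU]; exact hg')
    · rintro ⟨g', hg', he⟩
      refine ⟨b⁻¹ * g' * b, ?_, ?_⟩
      · change b⁻¹ * g' * b ∈ (P : Subgroup N)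
        rw [hPU]
        refine (hbU _).2 ?_
        have : b * (b⁻¹ * g' * b) * b⁻¹ = g' := by group
        rw [this, ← hPU]
        exact hg'
      · change (b : G)⁻¹ * (g' : G) * b = g
        have he' : (g' : G) = b * g * (b : G)⁻¹ := he
        rw [he']; group
  have hall : z⁻¹ * (b : G) * (z⁻¹)⁻¹ ∈ Subgroup.normalizer ((P : Subgroup N).map N.subtype : Set G) :=
    mul_mem (mul_mem hy hbU') (inv_mem hy)
  rw [Subgroup.mem_normalizer_iff]
  intro u
  rw [Subgroup.mem_normalizer_iff] at hall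
  have h3 := hall (u : G)
  have h4 : ∀ v : N, (v : G) ∈ (P : Subgroup N).map N.subtype ↔ v ∈ RGD.Sup X (RGD.Pos cs h) := by
    intro v
    rw [← hPU]
    constructor
    · rintro ⟨v', hv', he⟩
      have : v' = v := Subtype.ext he
      rw [← this]; exact hv'
    · exact fun hv => ⟨v, hv, rfl⟩
  rw [h4 u] at h3
  rw [h3]
  exact h4 (⟨_, hyN⟩ * u * ⟨_, hyN⟩⁻¹)

/-- **Theorem D.** -/
theorem borel_transitive [Finite G] [Finite W] [Fact p.Prime] [N.Normal] (R : RGD cs h p T n X)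
    (hG : GG cs h T X = ⊤) (hC : CommGen cs h X) {Ω : Type*} [Finite Ω] [Nonempty Ω] [MulAction G Ω]
    [MulAction.IsPretransitive N Ω]
    (h2 : ∀ a b c d : Ω, a ≠ b → c ≠ d → ∃ g : G, g • a = c ∧ g • b = d) (hp : p ∣ Nat.card Ω) (α β : Ω) :
    ∃ b ∈ RGD.B cs h T X, ((b : N) : G) • α = β := by
  classical
  have : Fintype (RGD.B cs h T X) := Fintype.ofFinite _
  rcases dich (RGD.B cs h T X) h2 (frattini R hG) with h1 | h1
  · exact h1 α β
  · exact absurd hp (not_dvd R hG hC h1)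

theorem AS_borel_transitive [Finite W] [Fact p.Prime] {Ω : Type*} [MulAction G Ω]
    (A : Cfsg.Agent.H384.TwoTrans.AS G Ω N) (R : RGD cs h p T n X)
    (hG : GG cs h T X = ⊤) (hC : CommGen cs h X) (hp : p ∣ Nat.card Ω) (α β : Ω) :
    ∃ b ∈ RGD.B cs h T X, b • α = β := by
  have := A.finG
  have := A.finΩ
  have := A.normal
  have := A.transitive
  have : Nonempty Ω := ⟨α⟩
  exact borel_transitive R hG hC (fun a b c d => A.two' a b c d) hp α β

end RGD

end Cfsg.Agent.H969.TT.Dich
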