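import Cfsg.Agent.H167.AltRGD
import Cfsg.Agent.H969.TT.TopAbs
import Cfsg.Agent.Nodes.LeviDec

/-!
# Nondegenerate characters of `U` in a principal series permutation character (helper969)

`R : RGD cs h p T n X` in a finite group `Y` with `GG = ⊤`, `ψ : U →* ℂˣ` nontrivial on each simple root group, `Ω` a finite
`Y`-set with `PS B Ω`: the number of `U`-orbits on `Ω` on whose stabilisers `ψ` is trivial is
`∑ K, (-1) ^ |K| #(P_K-orbits on Ω)`.
-/

set_option autoImplicit false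
set_option linter.unusedSectionVars false

namespace Cfsg.Agent.H969.TT.TopRGD

open Cfsg CoxeterSystem Cfsg.Agent.ChevalleyStructure.CoxeterGeom Cfsg.Agent.Tits.Roots Cfsg.Agent.Tits.Core
  Cfsg.Agent.Tits.Exchange Cfsg.Agent.Tits.OfBN Cfsg.Agent.LieExceptional.BNPairCore
  Cfsg.Agent.Nodes.Reps Cfsg.Agent.Nodes.BNOf Cfsg.Agent.Nodes.OppDec Cfsg.Agent.Nodes.Bruhat
  Cfsg.Agent.Nodes.LeviDec Cfsg.Agent.Nodes.StabComb
  Cfsg.Agent.H167.SteinbergRGD Cfsg.Agent.H167.AltRGD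
  Cfsg.Agent.H969.TT.Count Cfsg.Agent.H969.TT.TopAbs Cfsg.Agent.Characters.Core

variable {I W Y : Type*} [Fintype I] [DecidableEq I] [Group W] [Group Y] {M : CoxeterMatrix I}
  {cs : CoxeterSystem M W} {A : I → I → ℤ} {h : IsCartan M A} {p : ℕ} {T : Subgroup Y} {n : I → Y}
  {X : (I → ℤ) → Subgroup Y}

theorem gen_of_GG [Finite W] (R : RGD cs h p T n X) (hG : GG cs h T X = ⊤) : RGD.B cs h T X ⊔ NN cs R.nsys = ⊤ := by
  rw [eq_top_iff, ← hG]
  intro g hg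
  obtain ⟨w, b₁, hb₁, k, hk, b₂, hb₂, rfl⟩ := (mem_GG R).1 hg
  exact mul_mem (mul_mem (Subgroup.mem_sup_left hb₁) (Subgroup.mem_sup_right ⟨w, hk⟩)) (Subgroup.mem_sup_left hb₂)

/-- an element other than `w₀` can be made longer from the left -/
theorem exists_lt [Finite W] {w : W} (hw : w ≠ w0 cs) : ∃ i, cs.length w < cs.length (cs.simple i * w) := by
  have hv : w0 cs * w ≠ 1 := by
    intro h1
    apply hw
    rw [← w0_inv cs, eq_comm, inv_eq_iff_mul_eq_one]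
    exact h1
  obtain ⟨j, hj⟩ := cs.exists_leftDescent_of_ne_one hv
  have hj' : cs.length (cs.simple j * (w0 cs * w)) < cs.length (w0 cs * w) := hj
  refine ⟨op cs j, ?_⟩
  have e1 : cs.simple (op cs j) * w = w0 cs * (cs.simple j * (w0 cs * w)) := by
    rw [← mul_assoc, ← simple_op_mul_w0 cs j, mul_assoc, ← mul_assoc (w0 cs) (w0 cs), w0_mul_self, one_mul]
  have h1 := length_w0_mul cs (cs.simple j * (w0 cs * w))
  have h2 := length_w0_mul cs (w0 cs * w)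
  rw [← mul_assoc (w0 cs) (w0 cs), w0_mul_self, one_mul] at h2
  rw [e1]
  omega

/-- the `U`-orbit of `k₀ B` is the only good one. -/
theorem mult_cosets [Finite W] [Finite Y] (R : RGD cs h p T n X) (hG : GG cs h T X = ⊤)
    (ψ : ↥(RGD.Sup X (RGD.Pos cs h)) →* ℂˣ)
    (hψ : ∀ i, ∃ u : ↥(RGD.Sup X (RGD.Pos cs h)), (u : Y) ∈ X (sr i) ∧ ψ u ≠ 1) :
    mult (Y ⧸ RGD.B cs h T X) ψ.ker = 1 := by
  have hUB : RGD.Sup X (RGD.Pos cs h) ≤ RGD.B cs h T X := RGD.U_le_B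
  obtain ⟨k0, hk0⟩ := exists_rp cs R.nsys (w0 cs)
  set x0 : Y ⧸ RGD.B cs h T X := QuotientGroup.mk k0 with hx0
  have h0 : MulAction.stabilizer ↥(RGD.Sup X (RGD.Pos cs h)) x0 ≤ ψ.ker := by
    intro u hu
    have h1 : (u : Y) • x0 = x0 := hu
    have h2 := mk_inj R hk0 u 1 (by
      rw [Subgroup.coe_one, one_mul]
      exact h1)
    rw [h2]
    exact map_one ψ
  rw [mult, Nat.card_eq_one_iff_unique]
  have key : ∀ O : MulAction.orbitRel.Quotient ↥(RGD.Sup X (RGD.Pos cs h)) (Y ⧸ RGD.B cs h T X),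
      Count.Good ψ.ker O → O = Quotient.mk'' x0 := by
    intro O hO
    obtain ⟨x, rfl⟩ := Quotient.mk''_surjective O
    rw [good_mk] at hO
    obtain ⟨g, rfl⟩ := QuotientGroup.mk_surjective x
    have hg : g ∈ GG cs h T X := by rw [hG]; exact Subgroup.mem_top g
    obtain ⟨w, b₁, hb₁, k, hk, b₂, hb₂, rfl⟩ := (mem_GG R).1 hg
    obtain ⟨t, ht, u, hu, e⟩ := R.mem_B.1 (inv_mem hb₁)
    have e1 : b₁ = u⁻¹ * t⁻¹ := by rw [← inv_inv b₁, e]; group
    -- `g B = u⁻¹ k' B` with `k'` over `w`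
    have hk' : Rp cs R.nsys w (t⁻¹ * k) := by
      have := (rp_of_mem (cs := cs) (hN := R.nsys) (inv_mem ht)).mul hk
      rwa [one_mul] at this
    have h2 : (QuotientGroup.mk (b₁ * k * b₂) : Y ⧸ RGD.B cs h T X) =
        (⟨u⁻¹, inv_mem hu⟩ : ↥(RGD.Sup X (RGD.Pos cs h))) • (QuotientGroup.mk (t⁻¹ * k) : Y ⧸ RGD.B cs h T X) := by
      change _ = (QuotientGroup.mk (u⁻¹ * (t⁻¹ * k)) : Y ⧸ RGD.B cs h T X)
      rw [QuotientGroup.eq, e1]
      have : (u⁻¹ * t⁻¹ * k * b₂)⁻¹ * (u⁻¹ * (t⁻¹ * k)) = b₂⁻¹ := by group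
      rw [this]
      exact inv_mem hb₂
    have h3 : (Quotient.mk'' (QuotientGroup.mk (b₁ * k * b₂)) :
        MulAction.orbitRel.Quotient ↥(RGD.Sup X (RGD.Pos cs h)) (Y ⧸ RGD.B cs h T X)) =
        Quotient.mk'' (QuotientGroup.mk (t⁻¹ * k)) := by
      rw [mk_eq, h2]
      exact ⟨_, rfl⟩
    rw [h3]
    have hO' : MulAction.stabilizer ↥(RGD.Sup X (RGD.Pos cs h)) (QuotientGroup.mk (t⁻¹ * k) : Y ⧸ RGD.B cs h T X) ≤
        ψ.ker := by
      rw [← good_mk, ← h3, good_mk]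
      exact hO
    by_cases hw : w = w0 cs
    · subst hw
      have h4 : (QuotientGroup.mk (t⁻¹ * k) : Y ⧸ RGD.B cs h T X) = x0 := by
        rw [hx0, QuotientGroup.eq]
        exact RGD.T_le_B (hk'.unique hk0)
      rw [h4]
    · exfalso
      obtain ⟨i, hi⟩ : ∃ i, 0 ≤ rep cs h w⁻¹ (sr i) := by
        obtain ⟨i, hi⟩ := exists_lt hw
        refine ⟨i, (lt_iff' cs h w⁻¹ i).1 ?_⟩
        rwa [cs.length_inv, ← cs.length_inv (w⁻¹ * cs.simple i), mul_inv_rev, inv_inv, cs.inv_simple]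
      obtain ⟨u', hu', hne⟩ := hψ i
      apply hne
      refine hO' (x := u') ?_
      change (QuotientGroup.mk ((u' : Y) * (t⁻¹ * k)) : Y ⧸ RGD.B cs h T X) = QuotientGroup.mk (t⁻¹ * k)
      rw [eq_comm, QuotientGroup.eq]
      have h5 : (t⁻¹ * k)⁻¹ * ((u' : Y) * (t⁻¹ * k)) = (t⁻¹ * k)⁻¹ * u' * (t⁻¹ * k) := by group
      rw [h5]
      exact RGD.X_le_B ((isRoot_sr cs h i).act w⁻¹) hi (R.conj_mem' hk' (isRoot_sr cs h i) hu')
  refine ⟨⟨?_⟩, ⟨⟨Quotient.mk'' x0, good_mk.2 h0⟩⟩⟩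
  rintro ⟨O, hO⟩ ⟨O', hO'⟩
  exact Subtype.ext ((key O hO).trans (key O' hO').symm)

/-- the number of orbits of the subgroup `P` -/
noncomputable def nOrb {Y : Type*} [Group Y] (P : Subgroup Y) (Ω : Type*) [MulAction Y Ω] : ℕ :=
  Nat.card (MulAction.orbitRel.Quotient P Ω)

theorem mult_top {U Ω : Type*} [Group U] [MulAction U Ω] : mult Ω (⊤ : Subgroup U) =
    Nat.card (MulAction.orbitRel.Quotient U Ω) := by
  refine Nat.card_congr (Equiv.subtypeUnivEquiv fun O α _ => le_top)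

/-- `⟨π, 1_P^Y⟩` is the number of `P`-orbits. -/
theorem classInner_fpc {Y : Type*} [Group Y] [Fintype Y] (P : Subgroup Y) {Ω : Type*} [Fintype Ω] [MulAction Y Ω] :
    classInner (fun y : Y => (Nat.card (MulAction.fixedBy Ω y) : ℂ)) (fixedPointCharacter P) = nOrb P Ω := by
  classical
  have : Fintype P := Fintype.ofFinite _
  have h1 := frob P (χ := fun y : Y => (Nat.card (MulAction.fixedBy Ω y) : ℂ))
    (isCharacter_isClassFunction isCharacter_perm)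
  rw [classInner_def]
  have h2 : ∀ y : Y, (Nat.card (MulAction.fixedBy Ω y) : ℂ) * (starRingEnd ℂ) (fixedPointCharacter P y) =
      (Nat.card (MulAction.fixedBy Ω y) : ℂ) * (Nat.card (MulAction.fixedBy (Y ⧸ P) y) : ℂ) := by
    intro y
    rw [fixedPointCharacter, Complex.conj_natCast]
  rw [Finset.sum_congr rfl fun y _ => h2 y, h1]
  have h3 := sum_char (U := P) (Ω := Ω) 1
  simp only [MonoidHom.one_apply, Units.val_one, one_mul, MonoidHom.ker_one, mult_top] at h3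
  have h4 : ∑ b : P, (Nat.card (MulAction.fixedBy Ω (b : Y)) : ℂ) =
      ∑ b : P, (Nat.card (MulAction.fixedBy Ω b) : ℂ) := rfl
  rw [h4, h3, nOrb]
  have h5 : (Nat.card Y : ℂ) = (P.index : ℂ) * (Nat.card P : ℂ) := by
    rw [← P.card_mul_index]; push_cast; ring
  have h6 : (Nat.card Y : ℂ) ≠ 0 := card_ne_zero_complex
  rw [← mul_assoc (P.index : ℂ), ← h5, inv_mul_cancel_left₀ h6]

/-- **Nondegenerate characters.** -/
theorem mult_eq_alt [Finite W] [Fintype Y] (R : RGD cs h p T n X) (hG : GG cs h T X = ⊤)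
    {Ω : Type*} [Fintype Ω] [MulAction Y Ω] [Fintype (RGD.B cs h T X)] (hPS : PS (RGD.B cs h T X) Ω)
    (ψ : ↥(RGD.Sup X (RGD.Pos cs h)) →* ℂˣ)
    (hψ : ∀ i, ∃ u : ↥(RGD.Sup X (RGD.Pos cs h)), (u : Y) ∈ X (sr i) ∧ ψ u ≠ 1) :
    (mult Ω ψ.ker : ℂ) = ∑ K ∈ (Finset.univ : Finset I).powerset, (-1 : ℂ) ^ K.card *
      (nOrb (RGD.B cs h T X ⊔ Subgroup.closure (n '' (K : Set I))) Ω : ℂ) := by
  classical
  have : Fintype ↥(RGD.Sup X (RGD.Pos cs h)) := Fintype.ofFinite _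
  obtain ⟨hirr, hval⟩ := exists_char_alt R (gen_of_GG R hG)
  have hUT : ∀ x ∈ RGD.Sup X (RGD.Pos cs h), x ∈ T → x = 1 := by
    intro x hx hxT
    have h1 : x ∈ RGD.Sup X (RGD.Pos cs h) ⊓ T := ⟨hx, hxT⟩
    rw [U_inf_T R] at h1
    exact h1
  have hU1 : ∀ u : ↥(RGD.Sup X (RGD.Pos cs h)), u ≠ 1 →
      Nat.card {v : ↥(RGD.Sup X (RGD.Pos cs h)) // (v : Y)⁻¹ * u * v ∈ T} = 0 := by
    intro u hu
    rw [Nat.card_eq_zero]
    left
    refine ⟨fun v => hu ?_⟩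
    have h1 := hUT _ (mul_mem (mul_mem (inv_mem v.1.2) u.2) v.1.2) v.2
    have h2 : (u : Y) = 1 := by
      have h3 : (u : Y) = v.1 * ((v.1 : Y)⁻¹ * u * v.1) * (v.1 : Y)⁻¹ := by group
      rw [h3, h1]; group
    exact Subtype.ext h2
  have h11 : Nat.card {v : ↥(RGD.Sup X (RGD.Pos cs h)) // (v : Y)⁻¹ * (1 : Y) * v ∈ T} =
      Nat.card ↥(RGD.Sup X (RGD.Pos cs h)) := by
    refine Nat.card_congr (Equiv.subtypeUnivEquiv fun v => ?_)
    rw [mul_one, inv_mul_cancel]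
    exact one_mem _
  have key := mult_eq (Ω := Ω) (RGD.B cs h T X) (RGD.Sup X (RGD.Pos cs h)) hPS ψ hirr (mult_cosets R hG ψ hψ) ?_ ?_
  · rw [key]
    have h1 : (fun g => ∑ K ∈ (Finset.univ : Finset I).powerset, (-1 : ℂ) ^ K.card *
        fixedPointCharacter (RGD.B cs h T X ⊔ Subgroup.closure (n '' (K : Set I))) g) =
        ∑ K ∈ (Finset.univ : Finset I).powerset, ((-1 : ℂ) ^ K.card) •
        fixedPointCharacter (RGD.B cs h T X ⊔ Subgroup.closure (n '' (K : Set I))) := by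
      funext g
      rw [Finset.sum_apply]
      rfl
    rw [h1, classInner_sum_right]
    refine Finset.sum_congr rfl fun K _ => ?_
    rw [classInner_smul_right, classInner_fpc, map_pow, map_neg, map_one]
  · rw [Finset.sum_eq_single 1]
    · rw [inv_one, map_one, Units.val_one, one_mul, Subgroup.coe_one, hval 1 (one_mem _), h11]
    · intro u _ hu
      rw [hval u (RGD.U_le_B u.2), hU1 u hu, Nat.cast_zero, mul_zero]
    · intro h1
      exact absurd (Finset.mem_univ _) h1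
  · rw [Finset.sum_congr rfl fun (b : ↥(RGD.B cs h T X)) _ => hval b b.2, ← Nat.cast_sum, Nat.cast_ne_zero]
    intro h1
    rw [Finset.sum_eq_zero_iff] at h1
    have h2 := h1 1 (Finset.mem_univ _)
    rw [Subgroup.coe_one, h11] at h2
    exact Nat.card_pos.ne' h2

end Cfsg.Agent.H969.TT.TopRGD
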